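import Cfsg.Agent.Lib.DegSubTwo.Conj

/-!
# The alternating square of `ζ`

It is the sum of `(p - 3) / 2` Galois conjugates of `ζ`, which agree on the `p`-regular elements.
-/

set_option autoImplicit false
set_option linter.unusedSectionVars false
set_option linter.style.haveILetI false

namespace Cfsg.Agent.Lib.DegSubTwo.Alt

open scoped ComplexConjugate
open Cfsg.Agent.Lib.FirstPower Average Periods Cfsg.Agent.Lib.Characters.Basic
open CharOrbit (IsVPart)
open Family (pow_eq_one_of_order)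
open Basic Eigen Conj

attribute [local instance] BlocksChars5.Basic.irrFintype

universe u

variable {p : ℕ} [Fact p.Prime] {G : Type u} [Group G] [Finite G] {x : G}
  {ζ : Cfsg.IrrCharacter G}

theorem not_dvd_orderOf_center (s : Std p x ζ) {z : G} (hz : z ∈ Subgroup.center G) :
    ¬ p ∣ orderOf z := ((isVPart_center s.hyp z).1 hz).2

theorem pow_unit_pow (s : Std p x ζ) (u : (ZMod p)ˣ) : (x ^ (u : ZMod p).val) ^ p = 1 := by
  rw [← pow_mul, mul_comm, pow_mul, pow_eq_one_of_order s.hyp.ord, one_pow]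

theorem centralizer_singular (s : Std p x ζ) (u : (ZMod p)ˣ) {z : G}
    (hz : z ∈ Subgroup.center G) :
    Subgroup.centralizer ({x ^ (u : ZMod p).val * z} : Set G) =
      Subgroup.centralizer ({x} : Set G) := by
  rw [← centralizer_pow_unit s.hyp u]
  ext g
  rw [Subgroup.mem_centralizer_singleton_iff, Subgroup.mem_centralizer_singleton_iff,
    ← mul_assoc, mul_assoc _ z g, ← Subgroup.mem_center_iff.1 hz g, ← mul_assoc, mul_left_inj]

theorem dvd_orderOf_singular (s : Std p x ζ) (u : (ZMod p)ˣ) {z : G}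
    (hz : z ∈ Subgroup.center G) : p ∣ orderOf (x ^ (u : ZMod p).val * z) := by
  have ho := orderOf_pow_unit s.hyp u
  rw [(show Commute (x ^ (u : ZMod p).val) z from
    Subgroup.mem_center_iff.1 hz _).orderOf_mul_eq_mul_orderOf_of_coprime]
  · rw [ho]; exact dvd_mul_right p _
  · rw [ho]
    exact (Fact.out : p.Prime).coprime_iff_not_dvd.2 (not_dvd_orderOf_center s hz)

/-- Summation over the `p`-singular elements. -/
theorem sum_singular [Fintype G] [Fintype (Subgroup.center G)] (s : Std p x ζ) (F : G → ℂ)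
    (hF : Cfsg.IsClassFunction G F) :
    (2 * p * Nat.card (Subgroup.center G) : ℂ) *
        ∑ g ∈ Finset.univ.filter (fun g : G => p ∣ orderOf g), F g =
      (Nat.card G : ℂ) * ∑ u : (ZMod p)ˣ, ∑ z : Subgroup.center G,
        F (x ^ (u : ZMod p).val * z) := by
  classical
  set S := Finset.univ.filter (fun g : G => p ∣ orderOf g) with hS
  let Φ : G × ((ZMod p)ˣ × Subgroup.center G) → G :=
    fun c => c.1 * (x ^ (c.2.1 : ZMod p).val * (c.2.2 : G)) * c.1⁻¹
  have hmaps : ∀ c ∈ (Finset.univ : Finset (G × ((ZMod p)ˣ × Subgroup.center G))), Φ c ∈ S := by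
    intro c _
    rw [hS, Finset.mem_filter]
    exact ⟨Finset.mem_univ _, by
      show p ∣ orderOf (c.1 * _ * c.1⁻¹)
      rw [← MulAut.conj_apply, MulEquiv.orderOf_eq]
      exact dvd_orderOf_singular s _ c.2.2.2⟩
  have hfib : ∀ g ∈ S, (Finset.univ.filter fun c => Φ c = g).card =
      2 * (p * Nat.card (Subgroup.center G)) := by
    intro g hg
    obtain ⟨u0, z0, hz0, hc0⟩ := exists_conj_singular s.hyp (Finset.mem_filter.1 hg).2
    rw [Finset.card_eq_sum_card_fiberwise (f := Prod.snd) (t := Finset.univ)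
      (fun _ _ => Finset.mem_univ _)]
    have hone : ∀ b : (ZMod p)ˣ × Subgroup.center G,
        ((Finset.univ.filter fun c => Φ c = g).filter fun c => c.2 = b).card =
          if IsConj (x ^ (b.1 : ZMod p).val * (b.2 : G)) g then
            Nat.card (Subgroup.centralizer ({x} : Set G)) else 0 := by
      intro b
      split_ifs with hb
      · obtain ⟨c1, hc1⟩ := isConj_iff.1 hb
        rw [← centralizer_singular s b.1 b.2.2, Nat.card_eq_fintype_card, ← Finset.card_univ]
        refine (Finset.card_bij (fun (d : Subgroup.centralizer _) _ => (c1 * (d : G), b))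
          ?_ ?_ ?_).symm
        · intro d _
          simp only [Finset.mem_filter, Finset.mem_univ, true_and, and_true, Φ]
          rw [← hc1, mul_assoc c1 (d : G) _, Subgroup.mem_centralizer_singleton_iff.1 d.2]
          group
        · intro d _ d' _ e
          exact Subtype.ext (mul_left_cancel (congrArg Prod.fst e))
        · rintro ⟨c, b'⟩ hc
          simp only [Finset.mem_filter, Finset.mem_univ, true_and, Φ] at hc
          obtain ⟨h1, rfl⟩ := hc
          refine ⟨⟨c1⁻¹ * c, ?_⟩, Finset.mem_univ _, by simp⟩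
          rw [Subgroup.mem_centralizer_singleton_iff, ← mul_inv_eq_iff_eq_mul]
          calc c1⁻¹ * c * (x ^ (b'.1 : ZMod p).val * (b'.2 : G)) * (c1⁻¹ * c)⁻¹
              = c1⁻¹ * (c * (x ^ (b'.1 : ZMod p).val * (b'.2 : G)) * c⁻¹) * c1 := by group
            _ = _ := by rw [h1, ← hc1]; group
      · rw [Finset.card_eq_zero, Finset.filter_eq_empty_iff]
        rintro ⟨c, b'⟩ hc rfl
        simp only [Finset.mem_filter, Finset.mem_univ, true_and, Φ] at hc
        exact hb (isConj_iff.2 ⟨c, hc⟩)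
    rw [Finset.sum_congr rfl fun b _ => hone b, ← Finset.sum_filter, Finset.sum_const, smul_eq_mul,
      card_centralizer_x s.hyp]
    congr 1
    have hset : (Finset.univ.filter fun b : (ZMod p)ˣ × Subgroup.center G =>
        IsConj (x ^ (b.1 : ZMod p).val * (b.2 : G)) g) = {(u0, ⟨z0, hz0⟩), (-u0, ⟨z0, hz0⟩)} := by
      ext ⟨u, z⟩
      simp only [Finset.mem_filter, Finset.mem_univ, true_and, Finset.mem_insert,
        Finset.mem_singleton, Prod.mk.injEq]
      constructor
      · intro hu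
        obtain ⟨c, hc⟩ := isConj_iff.1 (hu.trans hc0)
        have hzc : c * (z : G) * c⁻¹ = z := by
          rw [Subgroup.mem_center_iff.1 z.2 c, mul_inv_cancel_right]
        have hw : IsConj (x ^ (u : ZMod p).val) (x ^ (u0 : ZMod p).val * (z0 * (z : G)⁻¹)) := by
          refine isConj_iff.2 ⟨c, ?_⟩
          calc c * x ^ (u : ZMod p).val * c⁻¹
              = c * (x ^ (u : ZMod p).val * (z : G)) * c⁻¹ * (c * (z : G) * c⁻¹)⁻¹ := by group
            _ = _ := by rw [hc, hzc, mul_assoc]
        have hzz : z0 * (z : G)⁻¹ ∈ Subgroup.center G := mul_mem hz0 (inv_mem z.2)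
        have hp0 : (x ^ (u0 : ZMod p).val * (z0 * (z : G)⁻¹)) ^ p = 1 := by
          obtain ⟨d, hd⟩ := isConj_iff.1 hw
          rw [← hd, conj_pow, pow_unit_pow s u]
          simp
        have hz1 : z0 * (z : G)⁻¹ = 1 := by
          rw [(show Commute (x ^ (u0 : ZMod p).val) _ from
            Subgroup.mem_center_iff.1 hzz _).mul_pow, pow_unit_pow s u0, one_mul] at hp0
          rcases (Nat.dvd_prime (Fact.out : p.Prime)).1 (orderOf_dvd_of_pow_eq_one hp0) with h | h
          · exact orderOf_eq_one_iff.1 h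
          · exact absurd h.symm.dvd (not_dvd_orderOf_center s hzz)
        rw [hz1, mul_one] at hw
        have hz' : z = ⟨z0, hz0⟩ := Subtype.ext (mul_inv_eq_one.1 hz1).symm
        rcases eq_or_eq_neg_of_isConj s hw with e | e
        · exact Or.inl ⟨e, hz'⟩
        · exact Or.inr ⟨e, hz'⟩
      · rintro (⟨rfl, rfl⟩ | ⟨rfl, rfl⟩)
        · exact hc0.symm
        · refine IsConj.trans ?_ hc0.symm
          obtain ⟨c, hc⟩ := isConj_iff.1 (isConj_inv s)
          refine isConj_iff.2 ⟨c, ?_⟩
          have hzc : c * z0 * c⁻¹ = z0 := by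
            rw [Subgroup.mem_center_iff.1 hz0 c, mul_inv_cancel_right]
          calc c * (x ^ ((-u0 : (ZMod p)ˣ) : ZMod p).val * z0) * c⁻¹
              = c * x ^ ((-u0 : (ZMod p)ˣ) : ZMod p).val * c⁻¹ * (c * z0 * c⁻¹) := by group
            _ = x⁻¹ ^ ((-u0 : (ZMod p)ˣ) : ZMod p).val * z0 := by rw [← conj_pow, hc, hzc]
            _ = _ := by
              rw [inv_pow]
              congr 1
              refine inv_eq_of_mul_eq_one_left ?_
              rw [← pow_val_add (pow_eq_one_of_order s.hyp.ord), Units.val_neg, add_neg_cancel,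
                ZMod.val_zero, pow_zero]
    rw [hset, Finset.card_pair]
    exact fun e => ne_neg s u0 (congrArg Prod.fst e)
  have hall : ∑ c : G × ((ZMod p)ˣ × Subgroup.center G), F (Φ c) =
      (Nat.card G : ℂ) * ∑ u : (ZMod p)ˣ, ∑ z : Subgroup.center G,
        F (x ^ (u : ZMod p).val * z) := by
    rw [Fintype.sum_prod_type, Finset.sum_congr rfl
      (g := fun _ => ∑ u : (ZMod p)ˣ, ∑ z : Subgroup.center G, F (x ^ (u : ZMod p).val * z))
      (fun c _ => by
        rw [Fintype.sum_prod_type]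
        exact Finset.sum_congr rfl fun u _ => Finset.sum_congr rfl fun z _ => hF _ c),
      Finset.sum_const, Finset.card_univ, nsmul_eq_mul, Nat.card_eq_fintype_card]
  rw [← hall, ← Finset.sum_fiberwise_of_maps_to hmaps (fun c => F (Φ c)), Finset.mul_sum]
  refine Finset.sum_congr rfl fun g hg => ?_
  rw [Finset.sum_congr rfl (g := fun _ => F g) (fun c hc => by rw [(Finset.mem_filter.1 hc).2]),
    Finset.sum_const, hfib g hg, nsmul_eq_mul]
  push_cast
  ring

open scoped Classical in
theorem sum_normSq_image (s : Std p x ζ) (χf : (ZMod p)ˣ → Cfsg.IrrCharacter G) (a : (ZMod p)ˣ)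
    (hval : ∀ b, (χf b : G → ℂ) x = -et (b * a))
    (hfib : ∀ b c, χf b = χf c ↔ b = c ∨ b = -c) :
    ∑ χ ∈ (Finset.univ : Finset (ZMod p)ˣ).image χf, Complex.normSq ((χ : G → ℂ) x) =
      (p : ℝ) - 2 := by
  classical
  have htot : ∑ b : (ZMod p)ˣ, Complex.normSq ((χf b : G → ℂ) x) = 2 * ((p : ℝ) - 2) := by
    have h1 := sum_et_mul a a
    rw [if_neg (ne_neg s a), if_pos rfl, zero_add] at h1
    have : ((∑ b : (ZMod p)ˣ, Complex.normSq ((χf b : G → ℂ) x) : ℝ) : ℂ) =
        ((2 * ((p : ℝ) - 2) : ℝ) : ℂ) := by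
      push_cast
      rw [← h1]
      refine Finset.sum_congr rfl fun b _ => ?_
      rw [← Complex.mul_conj, hval, map_neg, conj_et, neg_mul_neg, mul_comm b a]
    exact_mod_cast this
  have h2 : ∑ b : (ZMod p)ˣ, Complex.normSq ((χf b : G → ℂ) x) =
      2 * ∑ χ ∈ (Finset.univ : Finset (ZMod p)ˣ).image χf, Complex.normSq ((χ : G → ℂ) x) := by
    rw [← Finset.sum_fiberwise_of_maps_to (g := χf) (t := Finset.univ.image χf)
      (fun b _ => Finset.mem_image_of_mem _ (Finset.mem_univ b)), Finset.mul_sum]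
    refine Finset.sum_congr rfl fun χ hχ => ?_
    obtain ⟨c, -, rfl⟩ := Finset.mem_image.1 hχ
    rw [Finset.sum_congr rfl (fun b hb => by rw [(Finset.mem_filter.1 hb).2]), Finset.sum_const,
      nsmul_eq_mul]
    congr 1
    have : (Finset.univ.filter fun b => χf b = χf c) = {c, -c} := by
      ext b
      simp [hfib]
    rw [this, Finset.card_pair (ne_neg s c)]
    norm_num
  linarith

/-- A coprime exponent fixing the centre fixes the values on the `p`-regular elements. -/
theorem regular_pow_one (s : Std p x ζ) {k : ℕ} (hk : k.Coprime (Nat.card G))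
    (hk1 : k ≡ 1 [MOD Nat.card (Subgroup.center G)]) {g : G} (hg : ¬ p ∣ orderOf g) :
    (ζ : G → ℂ) (g ^ k) = (ζ : G → ℂ) g := by
  classical
  by_contra hne
  have hp : p.Prime := Fact.out
  have hk0 : (k : ZMod p) ≠ 0 := fun h0 =>
    hp.ne_one ((hk.coprime_dvd_left ((ZMod.natCast_eq_zero_iff k p).1 h0)).eq_one_of_dvd
      (prime_dvd_card s.hyp))
  set a : (ZMod p)ˣ := Units.mk0 (k : ZMod p) hk0
  have hxk : x ^ k = x ^ (a : ZMod p).val := (pow_val_natCast (pow_eq_one_of_order s.hyp.ord) k).symm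
  have hgk : ¬ p ∣ orderOf (g ^ k) := fun h => hg (h.trans (orderOf_pow_dvd k))
  let f2 : (ZMod p)ˣ → Cfsg.IrrCharacter G := fun b => pw (fam s.hyp b) hk
  have hv2 : ∀ b, (f2 b : G → ℂ) x = -et (b * a) := by
    intro b
    rw [pw_apply, hxk, ← mul_one (x ^ _), fam_val s b a (one_mem _), lam_one, one_mul]
  have hv1 : ∀ b, (fam s.hyp b : G → ℂ) x = -et (b * 1) := by
    intro b
    have := fam_val s b 1 (one_mem (Subgroup.center G))
    rwa [Units.val_one, pow_val_one (pow_eq_one_of_order s.hyp.ord), lam_one, one_mul, mul_one] at this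
  have hf2 : ∀ b c, f2 b = f2 c ↔ b = c ∨ b = -c := by
    intro b c
    constructor
    · intro e
      rw [← fam_eq_iff s]
      refine Subtype.ext (funext fun y => ?_)
      obtain ⟨y0, rfl⟩ := (powCoprime (G := G) hk.symm).surjective y
      exact congrArg (fun χ : Cfsg.IrrCharacter G => (χ : G → ℂ) y0) e
    · intro e
      simp only [f2, (fam_eq_iff s b c).2 e]
  set O := (Finset.univ : Finset (ZMod p)ˣ).image (fam s.hyp)
  set O2 := (Finset.univ : Finset (ZMod p)ˣ).image f2
  have hdisj : Disjoint O O2 := by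
    rw [Finset.disjoint_left]
    rintro χ hχ hχ2
    obtain ⟨b, -, rfl⟩ := Finset.mem_image.1 hχ
    obtain ⟨c, -, hc⟩ := Finset.mem_image.1 hχ2
    apply hne
    have := congrArg (fun χ : Cfsg.IrrCharacter G => (χ : G → ℂ) g) hc
    simp only [f2, pw_apply, fam_regular s.hyp _ hgk, fam_regular s.hyp _ hg] at this
    exact this
  have h := slice_le s.hyp ζ 1 (O ∪ O2) fun χ hχ z hz => by
    rcases Finset.mem_union.1 hχ with h | h
    · obtain ⟨b, -, rfl⟩ := Finset.mem_image.1 h
      exact lam_fam s.hyp b hz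
    · obtain ⟨b, -, rfl⟩ := Finset.mem_image.1 h
      rw [lam_pw _ hk hz, lam_fam s.hyp b hz, ← lam_pow ζ hz]
      congr 1
      conv_rhs => rw [← pow_one z]
      exact pow_eq_pow_iff_modEq.2 (hk1.of_dvd (Subgroup.orderOf_dvd_natCard _ hz))
  rw [Units.val_one, pow_val_one (pow_eq_one_of_order s.hyp.ord), Finset.sum_union hdisj,
    sum_normSq_image s _ 1 hv1 (fam_eq_iff s), sum_normSq_image s f2 a hv2 hf2] at h
  have : (5 : ℝ) < p := by exact_mod_cast s.hyp.lt
  linarith

/-- The values on the `p`-regular elements depend on the exponent modulo the centre only. -/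
theorem regular_pow_congr (s : Std p x ζ) {k k' : ℕ} (hk : k.Coprime (Nat.card G))
    (hk' : k'.Coprime (Nat.card G)) (he : k ≡ k' [MOD Nat.card (Subgroup.center G)]) {g : G}
    (hg : ¬ p ∣ orderOf g) : (ζ : G → ℂ) (g ^ k) = (ζ : G → ℂ) (g ^ k') := by
  haveI : NeZero (Nat.card G) := ⟨Nat.card_pos.ne'⟩
  set w := ZMod.unitOfCoprime k hk
  set j := ((w⁻¹ : (ZMod (Nat.card G))ˣ) : ZMod (Nat.card G)).val
  have hj : j.Coprime (Nat.card G) := ZMod.val_coe_unit_coprime _
  have hjk : k * j ≡ 1 [MOD Nat.card G] := by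
    rw [← ZMod.natCast_eq_natCast_iff, Nat.cast_mul, ZMod.natCast_zmod_val, Nat.cast_one,
      ← ZMod.coe_unitOfCoprime k hk, ← Units.val_mul, mul_inv_cancel, Units.val_one]
  have h1 : (g ^ k) ^ (j * k') = g ^ k' := by
    rw [← pow_mul, ← mul_assoc]
    refine pow_eq_pow_iff_modEq.2 (Nat.ModEq.of_dvd (orderOf_dvd_natCard g) ?_)
    simpa using hjk.mul_right k'
  have hmod : j * k' ≡ 1 [MOD Nat.card (Subgroup.center G)] := by
    refine ((he.symm.mul_left j).trans ?_)
    rw [mul_comm]
    exact hjk.of_dvd (Subgroup.card_subgroup_dvd_card _)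
  rw [← h1, regular_pow_one s (Nat.Coprime.mul_left hj hk') hmod
    fun h => hg (h.trans (orderOf_pow_dvd k))]

theorem exists_k0 (s : Std p x ζ) :
    ∃ k : ℕ, k.Coprime (Nat.card G) ∧ (k : ZMod p) = 1 ∧
      k ≡ 2 [MOD Nat.card (Subgroup.center G)] := by
  have h2 : (2 : ℕ).Coprime (Nat.card (Subgroup.center G)) :=
    Nat.prime_two.coprime_iff_not_dvd.2 fun hd =>
      Nat.not_even_iff_odd.2 (odd_center s) (even_iff_two_dvd.2 hd)
  simpa using exists_exp_pair (prime_dvd_card s.hyp) 1 (Subgroup.card_subgroup_dvd_card _)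
    (not_dvd_center s.hyp) h2

set_option maxHeartbeats 1000000 in
/-- The alternating square on the `p`-regular elements. -/
theorem alt_identity (s : Std p x ζ) {k : ℕ} (hk : k.Coprime (Nat.card G))
    (hk2 : k ≡ 2 [MOD Nat.card (Subgroup.center G)]) {g : G} (hg : ¬ p ∣ orderOf g) :
    (ζ : G → ℂ) g ^ 2 - (ζ : G → ℂ) (g * g) = ((p - 3 : ℕ) : ℂ) * (ζ : G → ℂ) (g ^ k) := by
  classical
  haveI := Fintype.ofFinite G
  haveI := Fintype.ofFinite (Subgroup.center G)
  have hp : p.Prime := Fact.out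
  have h5 := s.hyp.lt
  have hxp := pow_eq_one_of_order s.hyp.ord
  obtain ⟨k0, hk0c, hk0p, hk0z⟩ := exists_k0 s
  rw [regular_pow_congr s hk hk0c (hk2.trans hk0z.symm) hg]
  have hzk : ∀ z : G, z ∈ Subgroup.center G → z ^ k0 = z ^ 2 := fun z hz =>
    pow_eq_pow_iff_modEq.2 (hk0z.of_dvd (Subgroup.orderOf_dvd_natCard _ hz))
  let fk : (ZMod p)ˣ → Cfsg.IrrCharacter G := fun b => pw (fam s.hyp b) hk0c
  have hfk : ∀ (b u : (ZMod p)ˣ) (z : G), z ∈ Subgroup.center G →
      (fk b : G → ℂ) (x ^ (u : ZMod p).val * z) = -(lam ζ z ^ 2 * et (b * u)) := by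
    intro b u z hz
    rw [pw_apply, (show Commute (x ^ (u : ZMod p).val) z from
      Subgroup.mem_center_iff.1 hz _).mul_pow, hzk z hz, ← pow_mul]
    have : x ^ ((u : ZMod p).val * k0) = x ^ (u : ZMod p).val := by
      rw [← pow_val_natCast hxp ((u : ZMod p).val * k0)]
      push_cast
      rw [hk0p, mul_one, ZMod.natCast_zmod_val]
    rw [this, fam_val s b u (pow_mem hz 2), lam_pow ζ hz]
  have hfkreg : ∀ (b : (ZMod p)ˣ) (g : G), ¬ p ∣ orderOf g →
      (fk b : G → ℂ) g = (ζ : G → ℂ) (g ^ k0) := fun b g hg => by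
    rw [pw_apply, fam_regular s.hyp b fun h => hg (h.trans (orderOf_pow_dvd k0))]
  have hfk_iff : ∀ b c, fk b = fk c ↔ b = c ∨ b = -c := by
    intro b c
    constructor
    · intro e
      refine eq_or_eq_neg_of_et s fun u => ?_
      have := congrArg (fun χ : Cfsg.IrrCharacter G => (χ : G → ℂ) (x ^ (u : ZMod p).val * 1)) e
      simp only [hfk _ _ _ (one_mem _), lam_one, one_pow, one_mul, neg_inj] at this
      exact this
    · intro e
      simp only [fk, (fam_eq_iff s b c).2 e]
  obtain ⟨A, hA, hAv⟩ := CharRange.exists_altChar (isCharacter_irr ζ)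
  choose c hc using fun θ : Cfsg.IrrCharacter G => exists_classInner_nat hA (isCharacter_irr θ)
  set two : (ZMod p)ˣ := Units.mk0 2 (two_ne_zero' s) with htwo
  have hAsing : ∀ (u : (ZMod p)ˣ) (z : G), z ∈ Subgroup.center G →
      A (x ^ (u : ZMod p).val * z) = lam ζ z ^ 2 * (et (two * u) + 1) := by
    intro u z hz
    have h1 := hAv (x ^ (u : ZMod p).val * z)
    have h2 : x ^ (u : ZMod p).val * z * (x ^ (u : ZMod p).val * z) =
        x ^ ((two * u : (ZMod p)ˣ) : ZMod p).val * (z * z) := by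
      rw [Units.val_mul, htwo, Units.val_mk0, two_mul, pow_val_add hxp]
      calc _ = x ^ (u : ZMod p).val * (z * x ^ (u : ZMod p).val) * z := by group
        _ = x ^ (u : ZMod p).val * (x ^ (u : ZMod p).val * z) * z := by
          rw [← Subgroup.mem_center_iff.1 hz (x ^ (u : ZMod p).val)]
        _ = _ := by group
    rw [h2, val_singular s u hz, val_singular s _ (mul_mem hz hz), lam_mul ζ hz] at h1
    have h3 := et_sq u (two_ne_zero' s)
    rw [← htwo] at h3
    linear_combination h1 / 2 + lam ζ z ^ 2 / 2 * h3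
  -- the multiplicities
  set R : ℂ := ∑ y ∈ Finset.univ.filter (fun y : G => ¬ p ∣ orderOf y),
    A y * conj ((ζ : G → ℂ) (y ^ k0)) with hR
  have hcoef : ∀ b : (ZMod p)ˣ, (p : ℂ) * c (fk b) +
      ((if two = -b then (p : ℂ) else 0) + (if two = b then (p : ℂ) else 0)) =
        p * R / Nat.card G + 3 := by
    intro b
    have hclass : Cfsg.IsClassFunction G (fun y => A y * conj ((fk b : G → ℂ) y)) := fun y h' => by
      show A _ * conj ((fk b : G → ℂ) _) = _
      rw [isClassFunction_of_isCharacter hA y h', isClassFunction_irr (fk b) y h']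
    have hS := sum_singular s _ hclass
    have hterm : ∀ u : (ZMod p)ˣ, ∑ z : Subgroup.center G,
        A (x ^ (u : ZMod p).val * z) * conj ((fk b : G → ℂ) (x ^ (u : ZMod p).val * z)) =
        (Nat.card (Subgroup.center G) : ℂ) * (-(et (two * u) * et (b * u)) - et (b * u)) := by
      intro u
      rw [Nat.card_eq_fintype_card, ← Finset.card_univ, ← nsmul_eq_mul, ← Finset.sum_const]
      refine Finset.sum_congr rfl fun z _ => ?_
      rw [hAsing u z z.2, hfk b u z z.2, map_neg, map_mul, map_pow, conj_et]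
      have hl := lam_mul_conj ζ z.2
      linear_combination
        (-(et (two * u) * et (b * u)) - et (b * u)) * (lam ζ (z : G) * conj (lam ζ (z : G)) + 1) * hl
    rw [Finset.sum_congr rfl fun u _ => hterm u, ← Finset.mul_sum, Finset.sum_sub_distrib,
      Finset.sum_neg_distrib, sum_et_mul, sum_et] at hS
    have hK : (Nat.card (Subgroup.center G) : ℂ) ≠ 0 := Nat.cast_ne_zero.2 Nat.card_pos.ne'
    have hG : (Nat.card G : ℂ) ≠ 0 := Nat.cast_ne_zero.2 Nat.card_pos.ne'
    have hci : (Nat.card G : ℂ) * c (fk b) =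
        R + ∑ y ∈ Finset.univ.filter (fun y : G => p ∣ orderOf y),
          A y * conj ((fk b : G → ℂ) y) := by
      rw [← hc, Cfsg.classInner, ← mul_assoc, mul_inv_cancel₀ hG, one_mul,
        ← Finset.sum_filter_add_sum_filter_not Finset.univ (fun y : G => p ∣ orderOf y), add_comm]
      congr 1
      refine Finset.sum_congr rfl fun y hy => ?_
      rw [hfkreg b y (Finset.mem_filter.1 hy).2]
    set Sg := ∑ y ∈ Finset.univ.filter (fun y : G => p ∣ orderOf y),
      A y * conj ((fk b : G → ℂ) y)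
    have hS' : (p : ℂ) * Sg = (Nat.card G : ℂ) *
        (3 - ((if two = -b then (p : ℂ) else 0) + (if two = b then (p : ℂ) else 0))) :=
      mul_left_cancel₀ (mul_ne_zero two_ne_zero hK) (by linear_combination hS)
    refine mul_left_cancel₀ hG ?_
    rw [mul_add (Nat.card G : ℂ) ((p : ℂ) * R / Nat.card G), mul_div_cancel₀ _ hG]
    linear_combination (p : ℂ) * hci + hS'
  have hbne : ∀ b : (ZMod p)ˣ, b ≠ two → b ≠ -two → 1 ≤ c (fk b) := by
    intro b h1 h2
    have hb := hcoef b
    have ht := hcoef two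
    rw [if_neg (fun e => h2 (by rw [e, neg_neg])), if_neg (Ne.symm h1)] at hb
    rw [if_neg (ne_neg s two), if_pos rfl] at ht
    have hkey : (p : ℂ) * c (fk b) = (p : ℂ) * ((c (fk two) + 1 : ℕ) : ℂ) := by
      push_cast
      linear_combination hb - ht
    have := Nat.cast_injective (mul_left_cancel₀ (Nat.cast_ne_zero.2 hp.ne_zero) hkey)
    omega
  set T := (Finset.univ : Finset (ZMod p)ˣ) \ {two, -two} with hT
  set O := T.image fk with hO
  have hTcard : T.card = p - 3 := by
    rw [hT, Finset.card_univ_diff, ZMod.card_units, Finset.card_pair (ne_neg s two)]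
    omega
  have hOcard : 2 * O.card = T.card := by
    rw [Finset.card_eq_sum_card_image fk T, ← hO,
      Finset.sum_congr rfl (g := fun _ => 2), Finset.sum_const, smul_eq_mul, mul_comm]
    intro χ hχ
    obtain ⟨b, hb, rfl⟩ := Finset.mem_image.1 hχ
    have : (T.filter fun a => fk a = fk b) = {b, -b} := by
      ext a
      rw [Finset.mem_filter, hfk_iff, Finset.mem_insert, Finset.mem_singleton]
      refine ⟨And.right, fun h => ⟨?_, h⟩⟩
      rcases h with rfl | rfl
      · exact hb
      · simp only [hT, Finset.mem_sdiff, Finset.mem_univ, Finset.mem_insert, Finset.mem_singleton,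
          true_and, not_or] at hb ⊢
        exact ⟨fun e => hb.2 (by rw [← e, neg_neg]), fun e => hb.1 (neg_injective e)⟩
    rw [this, Finset.card_pair (ne_neg s b)]
  have hcO : ∀ χ ∈ O, 1 ≤ c χ ∧ Cfsg.charDegree (χ : G → ℂ) = p - 2 := by
    intro χ hχ
    obtain ⟨b, hb, rfl⟩ := Finset.mem_image.1 hχ
    simp only [hT, Finset.mem_sdiff, Finset.mem_univ, Finset.mem_insert, Finset.mem_singleton,
      true_and, not_or] at hb
    refine ⟨hbne b hb.1 hb.2, ?_⟩
    have h1 := hfkreg b 1 (by rw [orderOf_one]; exact hp.not_dvd_one)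
    rw [one_pow, apply_one_zeta s.hyp, DegreeBounds.Basic.charDegree_irr] at h1
    exact_mod_cast h1
  have hdec : ∀ y, A y = ∑ θ : Cfsg.IrrCharacter G, (c θ : ℂ) * (θ : G → ℂ) y := by
    intro y
    rw [Characters.Complete.classFunction_eq_sum (isClassFunction_of_isCharacter hA),
      Finset.sum_apply]
    exact Finset.sum_congr rfl fun θ _ => by rw [Pi.smul_apply, smul_eq_mul, hc]
  have hA1 : 2 * (∑ θ : Cfsg.IrrCharacter G, c θ * Cfsg.charDegree (θ : G → ℂ)) =
      (p - 2) * (p - 3) := by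
    have h1 := hAv 1
    rw [hdec, one_mul, apply_one_zeta s.hyp] at h1
    simp only [DegreeBounds.Basic.charDegree_irr] at h1
    have : ((2 * (∑ θ : Cfsg.IrrCharacter G, c θ * Cfsg.charDegree (θ : G → ℂ)) : ℕ) : ℂ) =
        (((p - 2) * (p - 3) : ℕ) : ℂ) := by
      push_cast [Nat.cast_sub (show 3 ≤ p by omega)] at h1 ⊢
      rw [Nat.cast_sub (show 2 ≤ p by omega)] at h1 ⊢
      push_cast at h1 ⊢
      linear_combination h1
    exact_mod_cast this
  rw [← Finset.sum_add_sum_compl O] at hA1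
  have hOsum : O.card * (p - 2) ≤ ∑ θ ∈ O, c θ * Cfsg.charDegree (θ : G → ℂ) := by
    rw [← smul_eq_mul, ← Finset.sum_const]
    exact Finset.sum_le_sum fun θ hθ => by
      rw [(hcO θ hθ).2]
      exact Nat.le_mul_of_pos_left _ (hcO θ hθ).1
  have hprod : 2 * (O.card * (p - 2)) = (p - 2) * (p - 3) := by
    rw [← mul_assoc, hOcard, hTcard, mul_comm]
  have hrest : ∑ θ ∈ Oᶜ, c θ * Cfsg.charDegree (θ : G → ℂ) = 0 := by omega
  have heq : ∑ θ ∈ O, (p - 2) = ∑ θ ∈ O, c θ * Cfsg.charDegree (θ : G → ℂ) := by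
    rw [Finset.sum_const, smul_eq_mul]
    omega
  have hc1 : ∀ θ ∈ O, c θ = 1 := by
    intro θ hθ
    have hle : ∀ θ ∈ O, p - 2 ≤ c θ * Cfsg.charDegree (θ : G → ℂ) := fun θ hθ => by
      rw [(hcO θ hθ).2]
      exact Nat.le_mul_of_pos_left _ (hcO θ hθ).1
    have := (Finset.sum_eq_sum_iff_of_le hle).1 heq θ hθ
    rw [(hcO θ hθ).2] at this
    exact (Nat.eq_of_mul_eq_mul_right (show 0 < p - 2 by omega) ((one_mul _).trans this)).symm
  have hc0 : ∀ θ ∉ O, c θ = 0 := by
    intro θ hθ
    have := (Finset.sum_eq_zero_iff.1 hrest) θ (Finset.mem_compl.2 hθ)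
    exact (Nat.mul_eq_zero.1 this).resolve_right
      (DegreeBounds.Basic.charDegree_pos θ).ne'
  have hfinal : A g = (O.card : ℂ) * (ζ : G → ℂ) (g ^ k0) := by
    rw [hdec, ← Finset.sum_add_sum_compl O, Finset.sum_eq_zero (s := Oᶜ) (fun θ hθ => by
      rw [hc0 θ (Finset.mem_compl.1 hθ), Nat.cast_zero, zero_mul]), add_zero, ← nsmul_eq_mul,
      ← Finset.sum_const]
    refine Finset.sum_congr rfl fun θ hθ => ?_
    rw [hc1 θ hθ, Nat.cast_one, one_mul]
    obtain ⟨b, -, rfl⟩ := Finset.mem_image.1 hθ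
    exact hfkreg b g hg
  rw [← hAv, hfinal, ← hTcard, ← hOcard]
  push_cast
  ring

end Cfsg.Agent.Lib.DegSubTwo.Alt
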