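import Cfsg.Agent.Lib.Characters.Basic
import Mathlib.LinearAlgebra.Matrix.Kronecker
import Mathlib.LinearAlgebra.Trace

/-!
# Characters carried by commuting idempotents, and the alternating square
-/

set_option autoImplicit false

namespace Cfsg.Agent.Lib.DegSubTwo.CharRange

open scoped Kronecker
open Cfsg.Agent.Lib.Induced.Basic Cfsg.Agent.Lib.Characters.Basic

universe u v

variable {G : Type u} [Group G]

theorem exists_char_range {V : Type v} [AddCommGroup V] [Module ℂ V] [FiniteDimensional ℂ V]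
    (ρ : Representation ℂ G V) (e : Module.End ℂ V) (he : e * e = e)
    (hc : ∀ g, Commute (ρ g) e) :
    ∃ φ : G → ℂ, Cfsg.IsCharacter G φ ∧ ∀ g, φ g = LinearMap.trace ℂ V (ρ g * e) := by
  have hstab : ∀ g, ∀ m ∈ LinearMap.range e, ρ g m ∈ LinearMap.range e := by
    rintro g m ⟨a, rfl⟩
    exact ⟨ρ g a, by rw [← Module.End.mul_apply, ← (hc g).eq]; rfl⟩
  let τ : Representation ℂ G (LinearMap.range e) :=
    { toFun := fun g => (ρ g).restrict (hstab g)
      map_one' := LinearMap.ext fun m => Subtype.ext (by simp)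
      map_mul' := fun g h => LinearMap.ext fun m => Subtype.ext (by simp) }
  refine ⟨τ.character, isCharacter_character τ, fun g => ?_⟩
  show LinearMap.trace ℂ _ (τ g) = _
  rw [show ρ g * e = (ρ g ∘ₗ (LinearMap.range e).subtype) ∘ₗ e.rangeRestrict from rfl,
    LinearMap.trace_comp_comm']
  congr 1
  refine LinearMap.ext fun a => Subtype.ext ?_
  show ρ g a = e (ρ g a)
  rw [← Module.End.mul_apply, ← (hc g).eq, Module.End.mul_apply]
  obtain ⟨b, hb⟩ := a.2
  rw [← hb, ← Module.End.mul_apply e e, he]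

variable {n : ℕ}

/-- The alternating square. -/
theorem exists_altChar {χ : G → ℂ} (hχ : Cfsg.IsCharacter G χ) :
    ∃ A : G → ℂ, Cfsg.IsCharacter G A ∧ ∀ g, 2 * A g = χ g ^ 2 - χ (g * g) := by
  classical
  obtain ⟨n, ρ, rfl⟩ := hχ
  let L : G →* Matrix (Fin n) (Fin n) ℂ :=
    (LinearMap.toMatrixAlgEquiv' (R := ℂ) (n := Fin n)).toAlgHom.toMonoidHom.comp ρ
  have hL : ∀ g, ρ.character g = (L g).trace := fun g =>
    LinearMap.trace_eq_matrix_trace ℂ (Pi.basisFun ℂ (Fin n)) (ρ g)
  let S : Matrix (Fin n × Fin n) (Fin n × Fin n) ℂ :=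
    Matrix.of fun a b => if b = a.swap then 1 else 0
  have hSmul : ∀ M : Matrix (Fin n × Fin n) (Fin n × Fin n) ℂ, ∀ a b, (S * M) a b = M a.swap b := by
    intro M a b
    simp [S, Matrix.mul_apply]
  have hmulS : ∀ M : Matrix (Fin n × Fin n) (Fin n × Fin n) ℂ, ∀ a b, (M * S) a b = M a b.swap := by
    intro M a b
    rw [Matrix.mul_apply, Finset.sum_eq_single b.swap]
    · simp [S]
    · intro c _ hc
      have : b ≠ c.swap := fun h => hc (by rw [h, Prod.swap_swap])
      simp [S, this]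
    · simp
  have hSS : S * S = 1 := by
    ext a b
    rw [hSmul]
    simp [S, Matrix.one_apply, eq_comm]
  let K : G →* Matrix (Fin n × Fin n) (Fin n × Fin n) ℂ :=
    { toFun := fun g => L g ⊗ₖ L g
      map_one' := by simp [Matrix.one_kronecker_one]
      map_mul' := fun g h => by rw [map_mul, Matrix.mul_kronecker_mul] }
  have hKS : ∀ g, Commute (K g) S := by
    intro g
    ext a b
    rw [hSmul, hmulS]
    show (L g ⊗ₖ L g) a b.swap = (L g ⊗ₖ L g) a.swap b
    simp [Matrix.kronecker_apply, mul_comm]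
  let toE := (Matrix.toLinAlgEquiv' (R := ℂ) (n := Fin n × Fin n))
  let σ : Representation ℂ G (Fin n × Fin n → ℂ) :=
    toE.toMulEquiv.toMonoidHom.comp K
  let E : Matrix (Fin n × Fin n) (Fin n × Fin n) ℂ := (2 : ℂ)⁻¹ • (1 - S)
  have hEE : E * E = E := by
    simp only [E, smul_mul_smul_comm, mul_sub, sub_mul, one_mul, mul_one, hSS]
    ext a b
    simp only [Matrix.smul_apply, Matrix.sub_apply, smul_eq_mul]
    ring
  obtain ⟨A, hA, hAval⟩ := exists_char_range σ (toE E)
    (by rw [← map_mul, hEE]) (fun g => ((Commute.one_right _).sub_right (hKS g)).smul_right _ |>.map toE)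
  refine ⟨A, hA, fun g => ?_⟩
  rw [hAval, hL, hL]
  show 2 * LinearMap.trace ℂ _ (toE (K g) * toE E) = _
  rw [← map_mul, show LinearMap.trace ℂ _ (toE (K g * E)) = (K g * E).trace from
    Matrix.trace_toLin'_eq _]
  rw [mul_smul_comm, Matrix.trace_smul, mul_sub, mul_one, Matrix.trace_sub, smul_eq_mul,
    ← mul_assoc, mul_inv_cancel₀ (two_ne_zero), one_mul]
  show (L g ⊗ₖ L g).trace - ((L g ⊗ₖ L g) * S).trace = _
  rw [Matrix.trace_kronecker, map_mul, sq]
  congr 1
  rw [Matrix.trace, Matrix.trace, Fintype.sum_prod_type]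
  simp only [Matrix.diag_apply, hmulS, Prod.swap_prod_mk, Matrix.kronecker_apply, Matrix.mul_apply]

end Cfsg.Agent.Lib.DegSubTwo.CharRange
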