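import Cfsg.Agent.Lib.DegSubTwo.Modular
import Cfsg.Agent.Lib.DegSubTwo.CharRange
import Cfsg.Agent.Lib.FirstPower.SmallReduction
import Cfsg.Agent.Lib.FirstPower.Consequences
import Cfsg.Agent.Lib.BlocksChars5.Basic
import Cfsg.Agent.Lib.BC78.PowChar
import Cfsg.Agent.Lib.Clifford.Rep

/-!
# Faithful characters of degree below `p`: the setting

`p` divides `|G|` once, `x` has order `p`, its conjugates generate `G`, and `ζ` is faithful
irreducible of degree `p - 2`.
-/

set_option autoImplicit false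
set_option linter.unusedSectionVars false
set_option linter.style.haveILetI false

namespace Cfsg.Agent.Lib.DegSubTwo.Basic

open scoped ComplexConjugate
open Cfsg.Agent.Lib.FirstPower Average Periods Cfsg.Agent.Lib.Characters.Basic
open CharOrbit (IsVPart)
open Family (pow_eq_one_of_order)

attribute [local instance] BlocksChars5.Basic.irrFintype

universe u

/-- The hypotheses. -/
structure Hyp {G : Type u} [Group G] (p : ℕ) (x : G) (ζ : Cfsg.IrrCharacter G) : Prop where
  lt : 5 < p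
  ord : orderOf x = p
  sq : ¬ p ^ 2 ∣ Nat.card G
  gen : Subgroup.normalClosure ({x} : Set G) = ⊤
  nn : ∀ H : Subgroup G, H.Normal → Nat.card H ≠ p
  deg : Cfsg.charDegree (ζ : G → ℂ) = p - 2
  faith : ∀ g : G, (ζ : G → ℂ) g = (ζ : G → ℂ) 1 → g = 1

section General

variable {G : Type u} [Group G] [Finite G]

/-- The scalar of a central element. -/
noncomputable def lam (χ : Cfsg.IrrCharacter G) (z : G) : ℂ := (χ : G → ℂ) z / (χ : G → ℂ) 1

theorem apply_mul_central (χ : Cfsg.IrrCharacter G) {z : G} (hz : z ∈ Subgroup.center G) (g : G) :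
    (χ : G → ℂ) (g * z) = lam χ z * (χ : G → ℂ) g := by
  obtain ⟨d, ρ, hρ, hρχ⟩ := exists_rep χ
  haveI := hρ
  obtain ⟨r, hr⟩ := Clifford.Rep.schur ρ (ρ z) (fun g => by
    rw [← map_mul, ← map_mul, Subgroup.mem_center_iff.1 hz g])
  have h1 : ∀ y : G, (χ : G → ℂ) (y * z) = r * (χ : G → ℂ) y := by
    intro y
    rw [← hρχ, Representation.character, Representation.character, map_mul, hr,
      mul_smul_comm, mul_one, map_smul, smul_eq_mul]
  have h2 : lam χ z = r := by
    have h := h1 1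
    rw [one_mul] at h
    rw [lam, h, mul_div_assoc, div_self (apply_one_ne_zero χ), mul_one]
  rw [h2, h1]

theorem lam_one (χ : Cfsg.IrrCharacter G) : lam χ (1 : G) = 1 := div_self (apply_one_ne_zero χ)

theorem lam_mul (χ : Cfsg.IrrCharacter G) {z w : G} (hw : w ∈ Subgroup.center G) :
    lam χ (z * w) = lam χ z * lam χ w := by
  rw [lam, apply_mul_central χ hw]
  simp only [lam]
  ring

theorem lam_pow (χ : Cfsg.IrrCharacter G) {z : G} (hz : z ∈ Subgroup.center G) (k : ℕ) :
    lam χ (z ^ k) = lam χ z ^ k := by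
  induction k with
  | zero => rw [pow_zero, pow_zero, lam_one]
  | succ k ih => rw [pow_succ, pow_succ, lam_mul χ hz, ih]

theorem conj_lam (χ : Cfsg.IrrCharacter G) (z : G) : conj (lam χ z) = lam χ z⁻¹ := by
  rw [lam, lam, map_div₀, apply_inv (isCharacter_irr χ), conj_apply_one (isCharacter_irr χ)]

theorem lam_mul_conj (χ : Cfsg.IrrCharacter G) {z : G} (hz : z ∈ Subgroup.center G) :
    lam χ z * conj (lam χ z) = 1 := by
  rw [conj_lam, ← lam_mul χ (inv_mem hz), mul_inv_cancel, lam_one]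

theorem lam_ne_zero (χ : Cfsg.IrrCharacter G) {z : G} (hz : z ∈ Subgroup.center G) :
    lam χ z ≠ 0 := left_ne_zero_of_mul (lam_mul_conj χ hz ▸ one_ne_zero)

/-- The Galois image of an irreducible character by a coprime exponent. -/
def pw (χ : Cfsg.IrrCharacter G) {k : ℕ} (hk : k.Coprime (Nat.card G)) : Cfsg.IrrCharacter G :=
  ⟨fun g => (χ : G → ℂ) (g ^ k),
    haveI := Fintype.ofFinite G; BC78.PowChar.isIrrCharacter_pow χ.2 hk⟩

theorem pw_apply (χ : Cfsg.IrrCharacter G) {k : ℕ} (hk : k.Coprime (Nat.card G)) (g : G) :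
    (pw χ hk : G → ℂ) g = (χ : G → ℂ) (g ^ k) := rfl

theorem lam_pw (χ : Cfsg.IrrCharacter G) {k : ℕ} (hk : k.Coprime (Nat.card G)) {z : G}
    (hz : z ∈ Subgroup.center G) : lam (pw χ hk) z = lam χ z ^ k := by
  rw [← lam_pow χ hz, lam, lam, pw_apply, pw_apply, one_pow]

/-- Lifting residues to coprime exponents. -/
theorem exists_exp {m r : ℕ} (hm : m ∣ Nat.card G) (hr : r.Coprime m) :
    ∃ k : ℕ, k.Coprime (Nat.card G) ∧ k ≡ r [MOD m] := by
  haveI : NeZero (Nat.card G) := ⟨Nat.card_pos.ne'⟩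
  haveI : NeZero m := ⟨fun h => Nat.card_pos.ne' (Nat.eq_zero_of_zero_dvd (h ▸ hm) : Nat.card G = 0)⟩
  obtain ⟨w, hw⟩ := ZMod.unitsMap_surjective hm (ZMod.unitOfCoprime r hr)
  refine ⟨(w : ZMod (Nat.card G)).val, ZMod.val_coe_unit_coprime w, ?_⟩
  have h := congrArg (fun v : (ZMod m)ˣ => (v : ZMod m)) hw
  simp only [ZMod.unitsMap_def, Units.coe_map, MonoidHom.coe_coe, ZMod.coe_unitOfCoprime,
    ZMod.castHom_apply] at h
  rw [← ZMod.natCast_eq_natCast_iff, ← h, ZMod.cast_eq_val]

theorem exists_exp_pair {p : ℕ} [Fact p.Prime] (hp : p ∣ Nat.card G) (u : (ZMod p)ˣ) {m r : ℕ}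
    (hm : m ∣ Nat.card G) (hpm : ¬ p ∣ m) (hr : r.Coprime m) :
    ∃ k : ℕ, k.Coprime (Nat.card G) ∧ (k : ZMod p) = (u : ZMod p) ∧ k ≡ r [MOD m] := by
  have hcop : p.Coprime m := (Fact.out : p.Prime).coprime_iff_not_dvd.2 hpm
  obtain ⟨s, hs1, hs2⟩ := Nat.chineseRemainder hcop (u : ZMod p).val r
  have hsc : s.Coprime (p * m) := by
    refine Nat.Coprime.mul_right ?_ ?_
    · rw [Nat.Coprime, Nat.ModEq.gcd_eq hs1]
      exact ZMod.val_coe_unit_coprime u
    · rw [Nat.Coprime, Nat.ModEq.gcd_eq hs2]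
      exact hr
  obtain ⟨k, hk, hkm⟩ := exists_exp (G := G) (hcop.mul_dvd_of_dvd_of_dvd hp hm) hsc
  refine ⟨k, hk, ?_, ?_⟩
  · rw [← ZMod.natCast_zmod_val (u : ZMod p), ZMod.natCast_eq_natCast_iff]
    exact (hkm.of_dvd (dvd_mul_right p m)).trans hs1
  · exact (hkm.of_dvd (dvd_mul_left m p)).trans hs2

end General

variable {p : ℕ} [Fact p.Prime] {G : Type u} [Group G] [Finite G] {x : G}
  {ζ : Cfsg.IrrCharacter G}

theorem prime_dvd_card (h : Hyp p x ζ) : p ∣ Nat.card G := h.ord ▸ orderOf_dvd_natCard x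

theorem apply_one_zeta (h : Hyp p x ζ) : (ζ : G → ℂ) 1 = ((p - 2 : ℕ) : ℂ) := by
  rw [DegreeBounds.Basic.charDegree_irr, h.deg]

theorem lam_injective (h : Hyp p x ζ) {z : G} (hz : z ∈ Subgroup.center G) (h1 : lam ζ z = 1) :
    z = 1 := by
  refine h.faith z ?_
  rw [lam, div_eq_one_iff_eq (apply_one_ne_zero ζ)] at h1
  exact h1

theorem eq_bot_of_pgroup (h : Hyp p x ζ) {K : Subgroup G} [hK : K.Normal]
    (hKp : IsPGroup p K) : K = ⊥ := by
  obtain ⟨a, ha⟩ := hKp.exists_card_eq
  match a, ha with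
  | 0, ha => exact Subgroup.card_eq_one.mp (by rw [ha, pow_zero])
  | 1, ha => exact absurd (by rw [ha, pow_one]) (h.nn K hK)
  | a + 2, ha =>
    exact absurd ((pow_dvd_pow p (by omega : 2 ≤ a + 2)).trans
      (ha ▸ Subgroup.card_subgroup_dvd_card K)) h.sq

/-- The prime-to-`p` part of the centraliser of `x` is the centre. -/
theorem isVPart_center (h : Hyp p x ζ) : IsVPart p x (Subgroup.center G) := by
  classical
  have hp : p.Prime := Fact.out
  obtain ⟨V, hV⟩ := Family.exists_vpart h.ord h.sq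
  suffices hVZ : V = Subgroup.center G by rwa [hVZ] at hV
  refine le_antisymm ?_ ?_
  · obtain ⟨M, hM⟩ := Blocks.exists_isPModular p hp
    haveI : M.IsMaximal := hM.2.1
    haveI : CharP (Cfsg.AlgInt ⧸ M) p := Blocks.charP_residue hM
    letI : Field (Cfsg.AlgInt ⧸ M) := Ideal.Quotient.field M
    obtain ⟨d, A, hd, hker⟩ := SmallReduction.exists_reduction (p := p) hM (isCharacter_irr ζ)
    obtain rfl : d = p - 2 := by exact_mod_cast hd.symm.trans (apply_one_zeta h)
    have hinj : A.ker = ⊥ := by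
      refine eq_bot_of_pgroup h (fun g => ?_)
      obtain ⟨k, hk⟩ : ∃ k, ¬ p ∣ orderOf ((g : G) ^ p ^ k) := by
        refine ⟨(orderOf (g : G)).factorization p, ?_⟩
        rw [orderOf_pow_of_dvd (pow_ne_zero _ hp.ne_zero) (Nat.ordProj_dvd _ _)]
        exact Nat.not_dvd_ordCompl hp (orderOf_pos (g : G)).ne'
      refine ⟨k, Subtype.ext ?_⟩
      rw [SubmonoidClass.coe_pow]
      exact h.faith _ (hker _ hk (by rw [map_pow, MonoidHom.mem_ker.mp g.2, one_pow]))
    intro v hv
    rw [Subgroup.mem_center_iff]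
    intro g
    have hcomm := Modular.commute_image_lt A h.ord h.sq h.gen
      (by rw [Module.finrank_fin_fun]; have := h.lt; omega) hV hv g
    exact ((MonoidHom.ker_eq_bot_iff A).mp hinj (by rw [map_mul, map_mul]; exact hcomm.eq)).symm
  · intro z hz
    rw [hV]
    refine ⟨Subgroup.mem_centralizer_singleton_iff.2 (Subgroup.mem_center_iff.1 hz x).symm,
      fun hdvd => ?_⟩
    obtain ⟨c, hc⟩ := hdvd
    have hord : orderOf (z ^ c) = p := by
      have hc0 : c ≠ 0 := by
        rintro rfl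
        exact (orderOf_pos z).ne' (by rw [hc, mul_zero])
      rw [orderOf_pow_of_dvd hc0 (Dvd.intro_left p hc.symm), hc,
        Nat.mul_div_cancel _ (Nat.pos_of_ne_zero hc0)]
    exact h.nn (Subgroup.zpowers (z ^ c))
      ⟨fun w hw g => by
        have hwz : w ∈ Subgroup.center G := (Subgroup.zpowers_le.2 (pow_mem hz c)) hw
        rwa [Subgroup.mem_center_iff.1 hwz g, mul_inv_cancel_right]⟩
      (by rw [Nat.card_zpowers, hord])

theorem card_centralizer_x (h : Hyp p x ζ) :
    Nat.card (Subgroup.centralizer ({x} : Set G)) = p * Nat.card (Subgroup.center G) :=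
  card_centralizer h.ord h.sq (isVPart_center h)

theorem not_dvd_center (h : Hyp p x ζ) : ¬ p ∣ Nat.card (Subgroup.center G) :=
  not_dvd_card_vpart (isVPart_center h)

theorem orderOf_pow_unit (h : Hyp p x ζ) (u : (ZMod p)ˣ) : orderOf (x ^ (u : ZMod p).val) = p := by
  refine orderOf_eq_prime ?_ fun h1 => u.ne_zero (pow_val_inj h.ord (h1.trans (by simp)))
  rw [← pow_mul, mul_comm, pow_mul, pow_eq_one_of_order h.ord, one_pow]

theorem centralizer_pow_unit (h : Hyp p x ζ) (u : (ZMod p)ˣ) :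
    Subgroup.centralizer ({x ^ (u : ZMod p).val} : Set G) = Subgroup.centralizer ({x} : Set G) := by
  ext g
  rw [Subgroup.mem_centralizer_singleton_iff, Subgroup.mem_centralizer_singleton_iff]
  refine ⟨fun hg => ?_, fun hg => ((show Commute g x from hg).pow_right _).eq⟩
  have := (show Commute g (x ^ (u : ZMod p).val) from hg).pow_right ((u⁻¹ : (ZMod p)ˣ) : ZMod p).val
  rwa [← pow_val_mul (pow_eq_one_of_order h.ord), ← Units.val_mul, mul_inv_cancel, Units.val_one,
    pow_val_one (pow_eq_one_of_order h.ord)] at this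

/-- A central multiple of a power of `x` is conjugate to it only trivially. -/
theorem eq_one_of_isConj (h : Hyp p x ζ) {y z : G} (hy : y ^ p = 1) (hz : z ∈ Subgroup.center G)
    (hc : IsConj y (y * z)) : z = 1 := by
  obtain ⟨c, hc⟩ := isConj_iff.1 hc
  have h1 : (y * z) ^ p = 1 := by rw [← hc, conj_pow, hy]; simp
  rw [(show Commute y z from Subgroup.mem_center_iff.1 hz y).mul_pow, hy, one_mul] at h1
  have h2 : orderOf z ∣ p := orderOf_dvd_of_pow_eq_one h1
  rcases (Nat.dvd_prime (Fact.out : p.Prime)).1 h2 with h3 | h3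
  · exact orderOf_eq_one_iff.1 h3
  · exact absurd (h3 ▸ Subgroup.orderOf_dvd_natCard _ hz) (not_dvd_center h)

/-- The column of a power of `x`, restricted to the characters over a fixed central character. -/
theorem slice_le (h : Hyp p x ζ) (χ₀ : Cfsg.IrrCharacter G) (u : (ZMod p)ˣ)
    (O : Finset (Cfsg.IrrCharacter G))
    (hO : ∀ χ ∈ O, ∀ z ∈ Subgroup.center G, lam χ z = lam χ₀ z) :
    ∑ χ ∈ O, Complex.normSq ((χ : G → ℂ) (x ^ (u : ZMod p).val)) ≤ p := by
  classical
  haveI := Fintype.ofFinite G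
  haveI := Fintype.ofFinite (Subgroup.center G)
  set y := x ^ (u : ZMod p).val with hy
  have hyp : y ^ p = 1 := by rw [← orderOf_pow_unit h u, hy, pow_orderOf_eq_one]
  let S : Cfsg.IrrCharacter G → ℂ := fun χ =>
    ∑ z : Subgroup.center G, lam χ₀ (z : G) * conj (lam χ (z : G))
  have hcol : ∀ z : Subgroup.center G, ∑ χ : Cfsg.IrrCharacter G,
      (χ : G → ℂ) y * conj ((χ : G → ℂ) (y * z)) =
        if z = 1 then ((p * Nat.card (Subgroup.center G) : ℕ) : ℂ) else 0 := by
    intro z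
    rw [BlocksChars5.Basic.second_orthogonality]
    by_cases hz : z = 1
    · subst hz
      rw [OneMemClass.coe_one, mul_one, if_pos (IsConj.refl y), if_pos rfl, hy,
        centralizer_pow_unit h, card_centralizer_x h]
    · rw [if_neg hz, if_neg]
      exact fun hc => hz (Subtype.ext (eq_one_of_isConj h hyp z.2 hc))
  have hSeq : ∀ χ : Cfsg.IrrCharacter G,
      S χ = if ∀ z ∈ Subgroup.center G, lam χ z = lam χ₀ z then
        (Nat.card (Subgroup.center G) : ℂ) else 0 := by
    intro χ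
    split_ifs with hχ
    · simp only [S, hχ _ (Subtype.prop _), lam_mul_conj χ₀ (Subtype.prop _), Finset.sum_const,
        Finset.card_univ, nsmul_eq_mul, mul_one, Nat.card_eq_fintype_card]
    · push Not at hχ
      obtain ⟨w, hw, hne⟩ := hχ
      have hshift : lam χ₀ w * conj (lam χ w) * S χ = S χ := by
        simp only [S, Finset.mul_sum]
        refine Fintype.sum_equiv (Equiv.mulLeft ⟨w, hw⟩) _ _ fun z => ?_
        simp only [Equiv.coe_mulLeft, Subgroup.coe_mul, lam_mul _ z.2, map_mul]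
        ring
      have hne1 : lam χ₀ w * conj (lam χ w) - 1 ≠ 0 := fun h0 => hne (by
        calc lam χ w = lam χ₀ w * conj (lam χ w) * lam χ w := by rw [sub_eq_zero.1 h0, one_mul]
          _ = _ := by rw [mul_assoc, mul_comm (conj _), lam_mul_conj χ hw, mul_one])
      exact (mul_eq_zero.1 (by linear_combination hshift :
        (lam χ₀ w * conj (lam χ w) - 1) * S χ = 0)).resolve_left hne1
  have hsum : ∑ χ : Cfsg.IrrCharacter G, S χ * ((χ : G → ℂ) y * conj ((χ : G → ℂ) y)) =
      ((p * Nat.card (Subgroup.center G) : ℕ) : ℂ) := by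
    simp only [S, Finset.sum_mul]
    rw [Finset.sum_comm, Finset.sum_eq_single (1 : Subgroup.center G)]
    · rw [← (hcol 1).trans (if_pos rfl)]
      refine Finset.sum_congr rfl fun χ _ => ?_
      simp [lam_one]
    · intro z _ hz
      rw [← mul_zero (lam χ₀ (z : G)), ← (hcol z).trans (if_neg hz), Finset.mul_sum]
      refine Finset.sum_congr rfl fun χ _ => ?_
      rw [apply_mul_central χ z.2, map_mul]
      ring
    · simp
  simp only [hSeq, ite_mul, zero_mul, Complex.mul_conj] at hsum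
  rw [← Finset.sum_filter, ← Finset.mul_sum, mul_comm, Nat.cast_mul] at hsum
  have hK : (Nat.card (Subgroup.center G) : ℂ) ≠ 0 := Nat.cast_ne_zero.2 Nat.card_pos.ne'
  have h2 := mul_right_cancel₀ hK hsum
  rw [← Complex.ofReal_sum, ← Complex.ofReal_natCast, Complex.ofReal_inj] at h2
  rw [← h2]
  refine Finset.sum_le_sum_of_subset_of_nonneg (fun χ hχ => ?_) fun χ _ _ => Complex.normSq_nonneg _
  exact Finset.mem_filter.2 ⟨Finset.mem_univ _, hO χ hχ⟩

end Cfsg.Agent.Lib.DegSubTwo.Basic
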