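import Cfsg.Agent.Lib.DegSubTwo.Eigen
import Mathlib.GroupTheory.Transfer
import Mathlib.GroupTheory.Abelianization.Defs

/-!
# Fusion of the powers of `x`; perfectness
-/

set_option autoImplicit false
set_option linter.unusedSectionVars false
set_option linter.style.haveILetI false

namespace Cfsg.Agent.Lib.DegSubTwo.Conj

open scoped ComplexConjugate
open Cfsg.Agent.Lib.FirstPower Average Periods Cfsg.Agent.Lib.Characters.Basic
open CharOrbit (IsVPart)
open Family (pow_eq_one_of_order)
open Basic Eigen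

attribute [local instance] BlocksChars5.Basic.irrFintype

universe u

variable {p : ℕ} [Fact p.Prime]

/-- The pair of roots of unity. -/
noncomputable def et (a : (ZMod p)ˣ) : ℂ := chr p (a : ZMod p) + chr p (-(a : ZMod p))

theorem et_neg (a : (ZMod p)ˣ) : et (-a) = et a := by
  simp only [et, Units.val_neg, neg_neg]
  ring

theorem conj_et (a : (ZMod p)ˣ) : conj (et a) = et a := by
  simp only [et, map_add, conj_chr, neg_neg]
  ring

theorem et_sq (a : (ZMod p)ˣ) (hp2 : (2 : ZMod p) ≠ 0) :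
    et a * et a = et (Units.mk0 2 hp2 * a) + 2 := by
  simp only [et, Units.val_mul, Units.val_mk0, two_mul, neg_add]
  have h1 : chr p (a : ZMod p) * chr p (-(a : ZMod p)) = 1 := by
    rw [← chr_add, add_neg_cancel, chr_zero]
  rw [chr_add (a : ZMod p) a, chr_add (-(a : ZMod p)) (-(a : ZMod p))]
  linear_combination 2 * h1

theorem sum_et (a : (ZMod p)ˣ) : ∑ u : (ZMod p)ˣ, et (a * u) = -2 := by
  simp only [et, Units.val_mul, Finset.sum_add_distrib, ← neg_mul]
  rw [sum_chr_units, sum_chr_units, if_neg a.ne_zero, if_neg (neg_ne_zero.2 a.ne_zero)]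
  norm_num

theorem sum_et_mul (a b : (ZMod p)ˣ) :
    ∑ u : (ZMod p)ˣ, et (a * u) * et (b * u) =
      2 * ((if a = -b then (p : ℂ) else 0) + (if a = b then (p : ℂ) else 0) - 2) := by
  have hterm : ∀ u : (ZMod p)ˣ, et (a * u) * et (b * u) =
      chr p (((a : ZMod p) + b) * u) + chr p (((a : ZMod p) - b) * u) +
        chr p ((-(a : ZMod p) + b) * u) + chr p ((-(a : ZMod p) - b) * u) := by
    intro u
    simp only [et, Units.val_mul, add_mul, sub_eq_add_neg, neg_mul, chr_add]
    ring
  have e1 : ((a : ZMod p) + b = 0) ↔ a = -b := by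
    rw [add_eq_zero_iff_eq_neg, ← Units.val_neg, Units.val_inj]
  have e2 : ((a : ZMod p) - b = 0) ↔ a = b := by rw [sub_eq_zero, Units.val_inj]
  have e3 : (-(a : ZMod p) + b = 0) ↔ a = b := by
    rw [neg_add_eq_sub, sub_eq_zero, Units.val_inj, eq_comm]
  have e4 : (-(a : ZMod p) - b = 0) ↔ a = -b := by
    rw [← neg_add', neg_eq_zero, e1]
  simp only [hterm, Finset.sum_add_distrib, sum_chr_units, e1, e2, e3, e4]
  split_ifs <;> ring

variable {G : Type u} [Group G] [Finite G] {x : G} {ζ : Cfsg.IrrCharacter G}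

theorem two_ne_zero' (s : Std p x ζ) : (2 : ZMod p) ≠ 0 := fun h0 => by
  have h1 : ((2 : ℕ) : ZMod p) = 0 := by exact_mod_cast h0
  have := Nat.le_of_dvd two_pos ((ZMod.natCast_eq_zero_iff _ _).1 h1)
  have := s.hyp.lt
  omega

theorem ne_neg (s : Std p x ζ) (a : (ZMod p)ˣ) : a ≠ -a := fun h => by
  have h0 : (2 : ZMod p) * (a : ZMod p) = 0 := by
    have := congrArg (fun u : (ZMod p)ˣ => (u : ZMod p)) h
    simp only [Units.val_neg] at this
    linear_combination this
  rcases mul_eq_zero.1 h0 with h1 | h1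
  · exact two_ne_zero' s h1
  · exact a.ne_zero h1

theorem eq_or_eq_neg_of_et (s : Std p x ζ) {a b : (ZMod p)ˣ}
    (h : ∀ u, et (a * u) = et (b * u)) : a = b ∨ a = -b := by
  have h1 := sum_et_mul a a
  have h2 := sum_et_mul a b
  rw [Finset.sum_congr rfl (g := fun u => et (a * u) * et (a * u)) (fun u _ => by rw [← h u])] at h2
  rw [h1, if_neg (ne_neg s a), if_pos rfl, zero_add] at h2
  by_contra hne
  push Not at hne
  rw [if_neg hne.2, if_neg hne.1] at h2
  have : (p : ℂ) = 0 := by linear_combination h2 / 2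
  exact (Fact.out : p.Prime).ne_zero (by exact_mod_cast this)

theorem val_singular (s : Std p x ζ) (u : (ZMod p)ˣ) {z : G} (hz : z ∈ Subgroup.center G) :
    (ζ : G → ℂ) (x ^ (u : ZMod p).val * z) = -(lam ζ z * et u) := by
  rw [apply_mul_central ζ hz, s.val, et, mul_neg]

theorem fam_val (s : Std p x ζ) (a u : (ZMod p)ˣ) {z : G} (hz : z ∈ Subgroup.center G) :
    (fam s.hyp a : G → ℂ) (x ^ (u : ZMod p).val * z) = -(lam ζ z * et (a * u)) := by
  rw [fam_singular s.hyp a _ hz, ← Units.val_mul, s.val, et, mul_neg]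

theorem fam_eq_iff (s : Std p x ζ) (a b : (ZMod p)ˣ) :
    fam s.hyp a = fam s.hyp b ↔ a = b ∨ a = -b := by
  constructor
  · intro h
    refine eq_or_eq_neg_of_et s fun u => ?_
    have := congrArg (fun χ : Cfsg.IrrCharacter G => (χ : G → ℂ) (x ^ (u : ZMod p).val * 1)) h
    simp only [fam_val s _ _ (one_mem (Subgroup.center G)), lam_one, one_mul, neg_inj] at this
    exact this
  · intro h
    refine ext_classFun s.hyp (fun g hg => by rw [fam_regular s.hyp a hg, fam_regular s.hyp b hg])
      fun u z hz => ?_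
    rw [fam_val s a u hz, fam_val s b u hz]
    rcases h with rfl | rfl
    · rfl
    · rw [neg_mul, et_neg]

theorem eq_or_eq_neg_of_isConj (s : Std p x ζ) {a b : (ZMod p)ˣ}
    (h : IsConj (x ^ (a : ZMod p).val) (x ^ (b : ZMod p).val)) : a = b ∨ a = -b := by
  refine eq_or_eq_neg_of_et s fun u => ?_
  have := classFunction_apply_of_isConj (isClassFunction_irr (fam s.hyp u)) h
  rw [← mul_one (x ^ (a : ZMod p).val), ← mul_one (x ^ (b : ZMod p).val),
    fam_val s _ _ (one_mem _), fam_val s _ _ (one_mem _), lam_one, one_mul, one_mul, neg_inj] at this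
  rw [mul_comm a, mul_comm b]
  exact this

theorem not_linear (s : Std p x ζ) {L : G →* ℂˣ} (hz : ∀ z ∈ Subgroup.center G, L z = 1)
    (hL : L x ≠ 1) (hLp : L x ^ p = 1) : False := by
  classical
  haveI := Fintype.ofFinite G
  have hp : p.Prime := Fact.out
  have hnorm : ∀ g : G, (L g : ℂ) * conj (L g : ℂ) = 1 := by
    intro g
    have h1 : (L g : ℂ) ^ orderOf g = 1 := by
      rw [← Units.val_pow_eq_pow_val, ← map_pow, pow_orderOf_eq_one, map_one, Units.val_one]
    rw [Complex.mul_conj, Complex.normSq_eq_norm_sq,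
      Complex.norm_eq_one_of_pow_eq_one h1 (orderOf_pos g).ne']
    simp
  have hpow : ∀ (i : ℕ) (g : G), ((L g : ℂ) ^ i) * conj ((L g : ℂ) ^ i) = 1 := fun i g => by
    rw [map_pow, ← mul_pow, hnorm, one_pow]
  have hirr : ∀ i : ℕ, Cfsg.IsIrrCharacter G (fun g => (ζ : G → ℂ) g * (L g : ℂ) ^ i) := by
    intro i
    refine isIrrCharacter_of_classInner_self ?_ ?_
    · have : (fun g => (ζ : G → ℂ) g * (L g : ℂ) ^ i) =
          (ζ : G → ℂ) * fun g => ((L ^ i) g : ℂ) := funext fun g => by simp
      rw [this]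
      exact isCharacter_mul (isCharacter_irr ζ)
        (IsCharacter_of_isIrrCharacter (BlocksChars5.Basic.isIrr_of_hom (L ^ i)))
    · rw [← classInner_self_irr ζ, Cfsg.classInner, Cfsg.classInner]
      congr 1
      refine Finset.sum_congr rfl fun g _ => ?_
      rw [map_mul, mul_mul_mul_comm, hpow, mul_one]
  let χi : Fin p → Cfsg.IrrCharacter G := fun i => ⟨_, hirr i⟩
  have hprim : IsPrimitiveRoot (L x : ℂ) p := by
    have h1 : orderOf (L x) = p := orderOf_eq_prime hLp hL
    have h2 := IsPrimitiveRoot.orderOf (L x : ℂ)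
    rwa [orderOf_units, h1] at h2
  have hx1 : (ζ : G → ℂ) x ≠ 0 := by
    intro h0
    have h1 := s.val 1
    rw [Units.val_one, pow_val_one (pow_eq_one_of_order s.hyp.ord), h0, eq_comm, neg_eq_zero] at h1
    have h2 : chr p (1 : ZMod p) * chr p (1 : ZMod p) = -1 := by
      have h3 : chr p (1 : ZMod p) * chr p (-1 : ZMod p) = 1 := by
        rw [← chr_add, add_neg_cancel, chr_zero]
      linear_combination chr p (1 : ZMod p) * h1 - h3
    have h4 : chr p (1 : ZMod p) ^ p = 1 := by
      rw [show (1 : ZMod p) = ((1 : ℕ) : ZMod p) by simp, chr_natCast, ← pow_mul, one_mul,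
        root_spec.pow_eq_one]
    have h5 : (chr p (1 : ZMod p) * chr p (1 : ZMod p)) ^ p = 1 := by rw [mul_pow, h4, one_mul]
    rw [h2, (hp.odd_of_ne_two (by have := s.hyp.lt; omega)).neg_one_pow] at h5
    norm_num at h5
  have hinj : Function.Injective χi := by
    intro i j e
    have := congrArg (fun χ : Cfsg.IrrCharacter G => (χ : G → ℂ) x) e
    exact Fin.ext (hprim.pow_inj i.2 j.2 (mul_left_cancel₀ hx1 this))
  have hsl : ∀ u : (ZMod p)ˣ, (p : ℝ) * Complex.normSq (et u) ≤ p := by
    intro u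
    have h := slice_le s.hyp ζ u ((Finset.univ : Finset (Fin p)).image χi) (by
      intro χ hχ z hzc
      obtain ⟨i, -, rfl⟩ := Finset.mem_image.1 hχ
      show ((ζ : G → ℂ) z * (L z : ℂ) ^ (i : ℕ)) / ((ζ : G → ℂ) 1 * (L 1 : ℂ) ^ (i : ℕ)) = lam ζ z
      rw [hz z hzc, map_one, Units.val_one, one_pow, mul_one, mul_one, lam])
    rw [Finset.sum_image fun a _ b _ e => hinj e] at h
    refine le_trans (le_of_eq ?_) h
    rw [Finset.sum_congr rfl (g := fun _ => Complex.normSq (et u)), Finset.sum_const,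
      Finset.card_univ, Fintype.card_fin, nsmul_eq_mul]
    intro i _
    show Complex.normSq ((ζ : G → ℂ) _ * (L _ : ℂ) ^ (i : ℕ)) = _
    rw [Complex.normSq_mul, s.val, Complex.normSq_neg]
    have : Complex.normSq ((L (x ^ (u : ZMod p).val) : ℂ) ^ (i : ℕ)) = 1 := by
      have := hpow i (x ^ (u : ZMod p).val)
      rw [Complex.mul_conj] at this
      exact_mod_cast this
    rw [this, mul_one]
    rfl
  have hle : ∀ u : (ZMod p)ˣ, Complex.normSq (et u) ≤ 1 := fun u =>
    le_of_mul_le_mul_left (by simpa using hsl u) (Nat.cast_pos.2 hp.pos)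
  have hsum : ((∑ u : (ZMod p)ˣ, Complex.normSq (et u) : ℝ) : ℂ) = ((2 * (p - 2) : ℝ) : ℂ) := by
    have := sum_et_mul (p := p) 1 1
    rw [if_pos rfl, if_neg (ne_neg s 1)] at this
    push_cast
    simp only [← Complex.mul_conj, conj_et]
    simp only [one_mul] at this
    linear_combination this
  have hsum' : (∑ u : (ZMod p)ˣ, Complex.normSq (et u) : ℝ) = 2 * ((p : ℝ) - 2) := by
    exact_mod_cast hsum
  have hb := Finset.sum_le_sum (s := (Finset.univ : Finset (ZMod p)ˣ)) fun u _ => hle u
  rw [hsum', Finset.sum_const, Finset.card_univ, ZMod.card_units, nsmul_eq_mul, mul_one,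
    Nat.cast_sub hp.one_le] at hb
  have : (5 : ℝ) < p := by exact_mod_cast s.hyp.lt
  push_cast at hb
  linarith

/-- `x` is conjugate to its inverse. -/
theorem isConj_inv (s : Std p x ζ) : IsConj x x⁻¹ := by
  classical
  have hp : p.Prime := Fact.out
  have hx := s.hyp.ord
  have hxp := pow_eq_one_of_order hx
  by_contra hcon
  obtain ⟨P, hP⟩ := Consequences.exists_sylow hx s.hyp.sq
  have hN : Subgroup.normalizer ((P : Subgroup G) : Set G) ≤
      Subgroup.centralizer ((P : Subgroup G) : Set G) := by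
    intro g hg
    rw [hP] at hg ⊢
    obtain ⟨a, ha⟩ := (mem_zpowers_iff_val hxp).1
      ((Subgroup.mem_normalizer_iff.1 hg x).1 (Subgroup.mem_zpowers x))
    have ha0 : a ≠ 0 := by
      rintro rfl
      rw [ZMod.val_zero, pow_zero, eq_comm, conj_eq_one_iff] at ha
      rw [ha, orderOf_one] at hx
      exact hp.ne_one hx.symm
    have hc : IsConj (x ^ ((1 : (ZMod p)ˣ) : ZMod p).val) (x ^ (Units.mk0 a ha0 : ZMod p).val) := by
      rw [Units.val_one, pow_val_one hxp]
      exact isConj_iff.2 ⟨g, ha.symm⟩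
    have hgx : g * x * g⁻¹ = x := by
      rcases eq_or_eq_neg_of_isConj s hc with h | h
      · have : a = 1 := (congrArg (fun u : (ZMod p)ˣ => (u : ZMod p)) h).symm
        rw [← ha, this, pow_val_one hxp]
      · exfalso
        have : a = -1 := by
          have := congrArg (fun u : (ZMod p)ˣ => (u : ZMod p)) h
          simp only [Units.val_one, Units.val_neg, Units.val_mk0] at this
          rw [this, neg_neg]
        refine hcon (isConj_iff.2 ⟨g, ?_⟩)
        rw [← ha, this]
        refine eq_inv_of_mul_eq_one_left ?_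
        conv_lhs => arg 2; rw [← pow_val_one hxp]
        rw [← pow_val_add hxp, neg_add_cancel, ZMod.val_zero, pow_zero]
    rw [Subgroup.mem_centralizer_iff]
    rintro y hy
    obtain ⟨i, rfl⟩ := Subgroup.mem_zpowers_iff.1 hy
    exact ((show Commute g x from mul_inv_eq_iff_eq_mul.1 hgx).zpow_right i).eq.symm
  have hcompl := MonoidHom.ker_transferSylow_isComplement' P hN
  set M := (MonoidHom.transferSylow P hN).ker
  have hxM : x ∉ M := fun h => by
    have h1 : x ∈ M ⊓ (P : Subgroup G) := ⟨h, hP ▸ Subgroup.mem_zpowers x⟩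
    rw [hcompl.disjoint.eq_bot, Subgroup.mem_bot] at h1
    rw [h1, orderOf_one] at hx
    exact hp.ne_one hx.symm
  obtain ⟨χ, hMχ, hxχ⟩ := BlocksChars5.Basic.exists_not_mem_charKer M x hxM
  obtain ⟨φ, hφ⟩ := BlocksChars5.Basic.exists_deflate χ M hMχ
  have hcard : Nat.card (G ⧸ M) = p := by
    have := hcompl.card_mul_card
    rw [← Subgroup.card_mul_index M, hP, Nat.card_zpowers, hx] at this
    rw [← Subgroup.index_eq_card]
    exact (Nat.eq_of_mul_eq_mul_left Nat.card_pos this).symm
  haveI : IsCyclic (G ⧸ M) := isCyclic_of_prime_card hcard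
  have hφ1 := BlocksChars5.Basic.degree_eq_one_of_comm φ fun a b =>
    (IsCyclic.commutative (α := G ⧸ M)).is_comm.comm a b
  have hχ1 : (χ : G → ℂ) 1 = 1 := by
    rw [← hφ, BlocksChars5.Basic.inflate_apply, QuotientGroup.mk_one]
    exact hφ1
  let L : G →* ℂˣ := Characters.Linear.degOneHom (isCharacter_irr χ) hχ1
  have hLv : ∀ g, (L g : ℂ) = (χ : G → ℂ) g :=
    Characters.Linear.degOneHom_apply (isCharacter_irr χ) hχ1
  have hLM : ∀ g ∈ M, L g = 1 := fun g hg => Units.ext (by
    rw [hLv, (BlocksChars5.Basic.mem_charKer χ g).1 (hMχ hg), hχ1, Units.val_one])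
  refine not_linear s (L := L) (fun z hz => hLM z ?_) (fun h => hxχ ?_) (by
    rw [← map_pow, hxp, map_one])
  · rw [← QuotientGroup.eq_one_iff]
    have h1 := orderOf_dvd_natCard (QuotientGroup.mk z : G ⧸ M)
    rw [hcard] at h1
    rcases (Nat.dvd_prime hp).1 h1 with h2 | h2
    · exact orderOf_eq_one_iff.1 h2
    · exfalso
      apply ((isVPart_center s.hyp z).1 hz).2
      rw [← h2]
      exact orderOf_map_dvd (QuotientGroup.mk' M) z
  · rw [BlocksChars5.Basic.mem_charKer, ← hLv, h, hχ1, Units.val_one]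

theorem hom_eq_one (s : Std p x ζ) {M : Type*} [CommGroup M] (f : G →* M) (g : G) : f g = 1 := by
  have hx : f x = 1 := by
    obtain ⟨c, hc⟩ := isConj_iff.1 (isConj_inv s)
    have h1 : f x = (f x)⁻¹ := by
      rw [← map_inv f x, ← hc, map_mul, map_mul, mul_comm (f c), mul_assoc, ← map_mul, mul_inv_cancel,
        map_one, mul_one]
    have h2 : f x ^ 2 = 1 := by rw [sq]; nth_rewrite 2 [h1]; exact mul_inv_cancel _
    have h3 : f x ^ p = 1 := by rw [← map_pow, pow_eq_one_of_order s.hyp.ord, map_one]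
    have h4 := pow_gcd_eq_one.2 (⟨h2, h3⟩ : f x ^ 2 = 1 ∧ f x ^ p = 1)
    rwa [Nat.coprime_primes Nat.prime_two Fact.out |>.2 (by have := s.hyp.lt; omega), pow_one] at h4
  have : Subgroup.normalClosure ({x} : Set G) ≤ f.ker :=
    Subgroup.normalClosure_le_normal (Set.singleton_subset_iff.2 hx)
  exact this (s.hyp.gen ▸ Subgroup.mem_top g)

theorem commutator_eq_top (s : Std p x ζ) : commutator G = ⊤ := by
  rw [← Abelianization.ker_of, MonoidHom.ker_eq_top_iff]
  exact MonoidHom.ext fun g => hom_eq_one s Abelianization.of g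

/-- The scalars of the centre are `n`-th roots of unity. -/
theorem lam_pow_degree (s : Std p x ζ) {z : G} (hz : z ∈ Subgroup.center G) :
    lam ζ z ^ (p - 2) = 1 := by
  obtain ⟨d, ρ, hρ, hρχ⟩ := exists_rep ζ
  haveI := hρ
  obtain ⟨r, hr⟩ := Clifford.Rep.schur ρ (ρ z) (fun g => by
    rw [← map_mul, ← map_mul, Subgroup.mem_center_iff.1 hz g])
  let D : G →* ℂ := LinearMap.det.comp ρ
  have hD : D z = 1 := by
    have h := congrArg Units.val (hom_eq_one s D.toHomUnits z)
    rwa [MonoidHom.coe_toHomUnits, Units.val_one] at h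
  have h1 : (ζ : G → ℂ) 1 = (d : ℂ) := by
    rw [← hρχ, Representation.character, map_one, LinearMap.trace_one, Module.finrank_fin_fun]
  have hd : d = p - 2 := by
    rw [apply_one_zeta s.hyp] at h1
    exact_mod_cast h1.symm
  have h2 : (ζ : G → ℂ) z = r * (ζ : G → ℂ) 1 := by
    rw [← hρχ, Representation.character, Representation.character, hr, map_one, map_smul,
      smul_eq_mul]
  have hlam : lam ζ z = r := by rw [lam, h2, mul_div_assoc, div_self (apply_one_ne_zero ζ), mul_one]
  simp only [D, MonoidHom.coe_comp, Function.comp_apply, hr, LinearMap.det_smul,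
    Module.finrank_fin_fun, map_one, mul_one] at hD
  rw [hlam, ← hd, hD]

theorem center_pow_degree (s : Std p x ζ) {z : G} (hz : z ∈ Subgroup.center G) :
    z ^ (p - 2) = 1 :=
  lam_injective s.hyp (pow_mem hz _) (by rw [lam_pow ζ hz, lam_pow_degree s hz])

theorem odd_center (s : Std p x ζ) : Odd (Nat.card (Subgroup.center G)) := by
  rw [← Nat.not_even_iff_odd, even_iff_two_dvd]
  intro h
  obtain ⟨z, hz⟩ := exists_prime_orderOf_dvd_card' 2 h
  have h1 := orderOf_dvd_of_pow_eq_one (center_pow_degree s z.2)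
  rw [Subgroup.orderOf_coe, hz] at h1
  obtain ⟨m, hm⟩ := (Fact.out : p.Prime).odd_of_ne_two (by have := s.hyp.lt; omega)
  have := s.hyp.lt
  omega

/-- Only central elements have values of absolute value the degree. -/
theorem mem_center_of_norm (h : Hyp p x ζ) {g : G}
    (hg : ‖(ζ : G → ℂ) g‖ = ((p - 2 : ℕ) : ℝ)) : g ∈ Subgroup.center G := by
  obtain ⟨d, ρ, hρ, hρχ⟩ := exists_rep ζ
  have h1 : (ζ : G → ℂ) 1 = (d : ℂ) := by
    rw [← hρχ, Representation.character, map_one, LinearMap.trace_one, Module.finrank_fin_fun]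
  have hd : d = p - 2 := by
    rw [apply_one_zeta h] at h1
    exact_mod_cast h1.symm
  obtain ⟨c, hc⟩ := Induced.Integral.scalar_of_norm_character_eq ρ (g := g) (by
    rw [hρχ, hg, Module.finrank_fin_fun, hd])
  rw [Subgroup.mem_center_iff]
  intro y
  have hcomm : ρ (g * y * (y * g)⁻¹) = ρ 1 := by
    rw [map_mul, show ρ (g * y) = ρ (y * g) by
      rw [map_mul, map_mul, hc]
      exact LinearMap.ext fun v => by simp, ← map_mul, mul_inv_cancel]
  have := h.faith (g * y * (y * g)⁻¹) (by
    rw [← hρχ, Representation.character, Representation.character, hcomm])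
  exact (mul_inv_eq_one.1 this).symm

end Cfsg.Agent.Lib.DegSubTwo.Conj
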