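import Cfsg.Agent.Lib.DegSubTwo.Values
import Cfsg.Agent.Lib.SmallGroups.Counting

/-!
# The order of the group

All involutions are conjugate, a Sylow `2`-subgroup is elementary of order `p - 1`, and
`|G| = p (p - 1) (p - 2) |Z(G)|`.
-/

set_option autoImplicit false
set_option linter.unusedSectionVars false
set_option linter.style.haveILetI false

namespace Cfsg.Agent.Lib.DegSubTwo.Count

open scoped ComplexConjugate
open Cfsg.Agent.Lib.FirstPower Average Periods Cfsg.Agent.Lib.Characters.Basic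
open CharOrbit (IsVPart)
open Family (pow_eq_one_of_order)
open Basic Eigen Conj Alt Values

attribute [local instance] BlocksChars5.Basic.irrFintype

universe u

variable {p : ℕ} [Fact p.Prime] {G : Type u} [Group G] [Finite G] {x : G}
  {ζ : Cfsg.IrrCharacter G}

theorem eq_one_of_sq (s : Std p x ζ) {z : G} (hz : z ∈ Subgroup.center G) (h : z ^ 2 = 1) :
    z = 1 := by
  have h1 := orderOf_dvd_of_pow_eq_one h
  rcases (Nat.dvd_prime Nat.prime_two).1 h1 with h2 | h2
  · exact orderOf_eq_one_iff.1 h2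
  · exact absurd (even_iff_two_dvd.2 (h2 ▸ Subgroup.orderOf_dvd_natCard _ hz))
      (Nat.not_even_iff_odd.2 (odd_center s))

theorem split_unique (s : Std p x ζ) {u v z w : G} (hu : u ^ 2 = 1) (hv : v ^ 2 = 1)
    (hz : z ∈ Subgroup.center G) (hw : w ∈ Subgroup.center G) (h : u * z = v * w) :
    u = v ∧ z = w := by
  have h1 : v⁻¹ * u = w * z⁻¹ := by
    rw [eq_mul_inv_iff_mul_eq, mul_assoc, h, inv_mul_cancel_left]
  have hc : w * z⁻¹ ∈ Subgroup.center G := mul_mem hw (inv_mem hz)
  have h2 : w * z⁻¹ = 1 := by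
    refine eq_one_of_sq s hc ?_
    have hvu : u = v * (w * z⁻¹) := by rw [← h1, mul_inv_cancel_left]
    rw [hvu, (show Commute v (w * z⁻¹) from Subgroup.mem_center_iff.1 hc v).mul_pow, hv,
      one_mul] at hu
    exact hu
  refine ⟨?_, (mul_inv_eq_one.1 h2).symm⟩
  rw [h2, inv_mul_eq_one] at h1
  exact h1.symm

theorem sq_eq_one_of_two_power (s : Std p x ζ) {t : G} {a : ℕ} (h : orderOf t = 2 ^ a) :
    t ^ 2 = 1 := by
  rcases a with _ | _ | c
  · rw [pow_zero, orderOf_eq_one_iff] at h; rw [h, one_pow]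
  · rw [← h.trans (pow_one 2), pow_orderOf_eq_one]
  · exfalso
    refine no_order_four s (t ^ 2 ^ c) ?_
    rw [orderOf_pow_of_dvd (by positivity) (h ▸ pow_dvd_pow 2 (by omega)), h,
      Nat.pow_div (by omega) two_pos, show c + 1 + 1 - c = 2 by omega]
    norm_num

theorem decomp_commute (s : Std p x ζ) {u g : G} (hu : orderOf u = 2) (hc : Commute u g) :
    ∃ t z, z ∈ Subgroup.center G ∧ t ^ 2 = 1 ∧ Commute t u ∧ g = t * z := by
  obtain ⟨a, m, hm, hgo⟩ := Nat.exists_eq_pow_mul_and_not_dvd (orderOf_pos g).ne' 2 (by norm_num)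
  have hm0 : m ≠ 0 := fun h => hm (h ▸ dvd_zero 2)
  have hyo : orderOf (g ^ 2 ^ a) = m := by
    rw [orderOf_pow_of_dvd (by positivity) (hgo ▸ dvd_mul_right _ _), hgo,
      Nat.mul_div_cancel_left _ (by positivity)]
  have hyc : g ^ 2 ^ a ∈ Subgroup.center G := central_of_commute s hu (hc.pow_right _)
    (by rw [hyo, ← Nat.not_even_iff_odd, even_iff_two_dvd]; exact hm)
  have hto : orderOf (g ^ m) = 2 ^ a := by
    rw [orderOf_pow_of_dvd hm0 (hgo ▸ dvd_mul_left _ _), hgo,
      Nat.mul_div_cancel _ (Nat.pos_of_ne_zero hm0)]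
  have ht2 := sq_eq_one_of_two_power s hto
  have hcop : Nat.gcd m (2 ^ a) = 1 :=
    Nat.Coprime.pow_right _ ((Nat.prime_two.coprime_iff_not_dvd.2 hm).symm)
  have hb := Nat.gcd_eq_gcd_ab m (2 ^ a)
  rw [hcop] at hb
  refine ⟨(g ^ m) ^ m.gcdA (2 ^ a), (g ^ 2 ^ a) ^ m.gcdB (2 ^ a),
    Subgroup.zpow_mem _ hyc _, ?_, ((hc.symm.pow_left m).zpow_left _), ?_⟩
  · rw [← zpow_natCast, ← zpow_mul, mul_comm, zpow_mul, zpow_natCast, ht2, one_zpow]
  · rw [← zpow_natCast g m, ← zpow_natCast g (2 ^ a), ← zpow_mul, ← zpow_mul, ← zpow_add, ← hb,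
      Nat.cast_one, zpow_one]

/-- The elements of order at most two in the centraliser of an involution. -/
def twoPart (s : Std p x ζ) (u : G) (hu : orderOf u = 2) : Subgroup G where
  carrier := {t | t ^ 2 = 1 ∧ Commute t u}
  one_mem' := ⟨one_pow 2, Commute.one_left u⟩
  inv_mem' := fun {t} ht => by
    refine ⟨?_, ht.2.inv_left⟩
    rw [inv_pow, ht.1, inv_one]
  mul_mem' := fun {a} {b} ha hb => by
    refine ⟨?_, ha.2.mul_left hb.2⟩
    obtain ⟨t, z, hz, ht, -, he⟩ := decomp_commute s hu (ha.2.mul_left hb.2).symm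
    have hsq : (a * b) ^ 2 = z ^ 2 := by
      rw [he, (show Commute t z from Subgroup.mem_center_iff.1 hz t).mul_pow, ht, one_mul]
    have ha' : a⁻¹ = a := inv_eq_of_mul_eq_one_right (by rw [← sq, ha.1])
    have hb' : b⁻¹ = b := inv_eq_of_mul_eq_one_right (by rw [← sq, hb.1])
    have h1 : ((a * b) ^ 2)⁻¹ = a * (a * b) ^ 2 * a⁻¹ := by
      rw [sq, mul_inv_rev, mul_inv_rev, ha', hb']
      simp only [← mul_assoc, ← sq a, ha.1, one_mul]
    have h4 : (z ^ 2) ^ 2 = 1 := by
      rw [hsq, Subgroup.mem_center_iff.1 (pow_mem hz 2) a, mul_inv_cancel_right,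
        inv_eq_iff_mul_eq_one, ← sq] at h1
      exact h1
    rw [hsq]
    exact eq_one_of_sq s (pow_mem hz 2) h4

theorem mem_twoPart (s : Std p x ζ) {u t : G} (hu : orderOf u = 2) :
    t ∈ twoPart s u hu ↔ t ^ 2 = 1 ∧ Commute t u := Iff.rfl

theorem commute_twoPart (s : Std p x ζ) {u a b : G} (hu : orderOf u = 2)
    (ha : a ∈ twoPart s u hu) (hb : b ∈ twoPart s u hu) : Commute a b := by
  have h : ∀ c ∈ twoPart s u hu, c⁻¹ = c := fun c hc =>
    inv_eq_of_mul_eq_one_right (by rw [← sq]; exact hc.1)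
  show a * b = b * a
  rw [← h _ (mul_mem ha hb), mul_inv_rev, h a ha, h b hb]

theorem self_mem_twoPart (s : Std p x ζ) {u : G} (hu : orderOf u = 2) : u ∈ twoPart s u hu :=
  ⟨by rw [← hu, pow_orderOf_eq_one], Commute.refl u⟩

theorem card_centralizer_inv (s : Std p x ζ) {u : G} (hu : orderOf u = 2) :
    Nat.card (Subgroup.centralizer ({u} : Set G)) =
      Nat.card (twoPart s u hu) * Nat.card (Subgroup.center G) := by
  rw [← Nat.card_prod]
  refine (Nat.card_eq_of_bijective
    (fun c : twoPart s u hu × Subgroup.center G =>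
      (⟨(c.1 : G) * c.2, Subgroup.mem_centralizer_singleton_iff.2
        ((c.1.2.2.mul_left (Subgroup.mem_center_iff.1 c.2.2 u).symm).eq)⟩ :
          Subgroup.centralizer ({u} : Set G))) ⟨?_, ?_⟩).symm
  · intro c d h
    obtain ⟨h1, h2⟩ := split_unique s c.1.2.1 d.1.2.1 c.2.2 d.2.2 (congrArg Subtype.val h)
    exact Prod.ext (Subtype.ext h1) (Subtype.ext h2)
  · rintro ⟨g, hg⟩
    obtain ⟨t, z, hz, ht, htu, rfl⟩ :=
      decomp_commute s hu (Subgroup.mem_centralizer_singleton_iff.1 hg).symm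
    exact ⟨(⟨t, ht, htu⟩, ⟨z, hz⟩), rfl⟩

theorem sylow_eq_twoPart (s : Std p x ζ) {u : G} (hu : orderOf u = 2) (S : Sylow 2 G)
    (huS : u ∈ S) : (S : Subgroup G) = twoPart s u hu := by
  haveI : Fact (Nat.Prime 2) := ⟨Nat.prime_two⟩
  have hsq : ∀ t ∈ (S : Subgroup G), t ^ 2 = 1 := fun t ht => by
    obtain ⟨k, hk⟩ := IsPGroup.iff_orderOf.1 S.2 ⟨t, ht⟩
    rw [Subgroup.orderOf_mk] at hk
    exact sq_eq_one_of_two_power s hk
  have hle : (S : Subgroup G) ≤ twoPart s u hu := by
    intro t ht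
    refine ⟨hsq t ht, ?_⟩
    have h := hsq _ (mul_mem ht huS)
    have hti : t⁻¹ = t := inv_eq_of_mul_eq_one_right (by rw [← sq, hsq t ht])
    have hui : u⁻¹ = u := inv_eq_of_mul_eq_one_right (by rw [← sq, ← hu, pow_orderOf_eq_one])
    rw [sq] at h
    show t * u = u * t
    rw [eq_inv_of_mul_eq_one_left h, mul_inv_rev, hti, hui]
  refine (S.3 (fun c => ⟨1, Subtype.ext ?_⟩) hle).symm
  rw [SubmonoidClass.coe_pow, pow_one]
  exact c.2.1

theorem card_twoPart (s : Std p x ζ) {u : G} (hu : orderOf u = 2) :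
    Nat.card (twoPart s u hu) = 2 ^ (Nat.card G).factorization 2 := by
  haveI : Fact (Nat.Prime 2) := ⟨Nat.prime_two⟩
  have hP : IsPGroup 2 (Subgroup.zpowers u) :=
    IsPGroup.of_card (n := 1) (by rw [Nat.card_zpowers, hu, pow_one])
  obtain ⟨S, hS⟩ := hP.exists_le_sylow
  have he := sylow_eq_twoPart s hu S (hS (Subgroup.mem_zpowers u))
  rw [← he]
  exact S.card_eq_multiplicity

theorem twoPart_eq (s : Std p x ζ) {u v : G} (hu : orderOf u = 2) (hv : orderOf v = 2)
    (hvu : v ∈ twoPart s u hu) : twoPart s u hu = twoPart s v hv :=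
  Subgroup.eq_of_le_of_card_ge (fun t ht => ⟨ht.1, commute_twoPart s hu ht hvu⟩)
    (by rw [card_twoPart s hu, card_twoPart s hv])

theorem card_twoPart_dvd (s : Std p x ζ) {u : G} (hu : orderOf u = 2) :
    Nat.card (twoPart s u hu) ∣ p - 1 := by
  classical
  set T := twoPart s u hu
  haveI := Fintype.ofFinite T
  obtain ⟨c, hc⟩ := exists_classInner_nat (isCharacter_comp T.subtype (isCharacter_irr ζ))
    (isCharacter_irr (oneChar T))
  have hcard : (Fintype.card T : ℂ) ≠ 0 := Nat.cast_ne_zero.2 Fintype.card_ne_zero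
  have hval : ∀ t ∈ (Finset.univ : Finset T).erase 1, (ζ : G → ℂ) (t : G) = -1 := fun t ht =>
    zeta_involution s (orderOf_eq_prime t.2.1 fun h =>
      (Finset.mem_erase.1 ht).1 (Subtype.ext h))
  simp only [Cfsg.classInner, oneChar_apply, map_one, mul_one, Function.comp_apply,
    Subgroup.coe_subtype] at hc
  rw [← Finset.add_sum_erase _ _ (Finset.mem_univ (1 : T)), OneMemClass.coe_one,
    apply_one_zeta s.hyp, Finset.sum_congr rfl hval, Finset.sum_const,
    Finset.card_erase_of_mem (Finset.mem_univ _), Finset.card_univ, Nat.card_eq_fintype_card,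
    nsmul_eq_mul, Nat.cast_sub Fintype.card_pos, inv_mul_eq_iff_eq_mul₀ hcard] at hc
  have h5 := s.hyp.lt
  refine ⟨c + 1, ?_⟩
  rw [Nat.card_eq_fintype_card]
  have : ((p - 1 : ℕ) : ℂ) = ((Fintype.card T * (c + 1) : ℕ) : ℂ) := by
    rw [show p - 1 = p - 2 + 1 by omega]
    push_cast at hc ⊢
    linear_combination hc
  exact_mod_cast this

/-- The second moment. -/
theorem moment (s : Std p x ζ) :
    p * (Nat.card (Subgroup.center G) * ((p - 2) ^ 2 + Nat.card {g : G // orderOf g = 2})) =
      2 * Nat.card G := by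
  classical
  haveI := Fintype.ofFinite G
  haveI := Fintype.ofFinite (Subgroup.center G)
  set F : G → ℂ := fun g => (ζ : G → ℂ) g * conj ((ζ : G → ℂ) g) with hF
  have hclass : Cfsg.IsClassFunction G F := fun g h => by
    simp only [hF]; rw [isClassFunction_irr ζ g h]
  have htot : ∑ g : G, F g = (Nat.card G : ℂ) := BlocksChars5.Basic.sum_mul_conj_self ζ
  have hS := sum_singular s F hclass
  have hterm : ∀ u : (ZMod p)ˣ, ∑ z : Subgroup.center G, F (x ^ (u : ZMod p).val * z) =
      (Nat.card (Subgroup.center G) : ℂ) * (et (1 * u) * et (1 * u)) := by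
    intro u
    rw [Nat.card_eq_fintype_card, ← Finset.card_univ, ← nsmul_eq_mul, ← Finset.sum_const]
    refine Finset.sum_congr rfl fun z _ => ?_
    simp only [hF]
    rw [val_singular s u z.2, map_neg, map_mul, conj_et, one_mul]
    linear_combination et u * et u * lam_mul_conj ζ z.2
  rw [Finset.sum_congr rfl fun u _ => hterm u, ← Finset.mul_sum, sum_et_mul,
    if_neg (ne_neg s 1), if_pos rfl, zero_add] at hS
  set I := (Finset.univ : Finset G).filter fun g => orderOf g = 2 with hI
  set A := (Finset.univ : Finset G).filter fun g => g ∈ Subgroup.center G with hA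
  set B := (I ×ˢ A).image (fun c => c.1 * c.2) with hB
  have hregA : ∀ g ∈ A, ¬ p ∣ orderOf g := fun g hg =>
    not_dvd_orderOf_center s (Finset.mem_filter.1 hg).2
  have hregB : ∀ g ∈ B, ¬ p ∣ orderOf g := by
    intro g hg
    obtain ⟨⟨u, z⟩, hc, rfl⟩ := Finset.mem_image.1 hg
    simp only [hI, hA, Finset.mem_product, Finset.mem_filter, Finset.mem_univ, true_and] at hc
    exact not_dvd_of_commute s hc.1
      ((Commute.refl u).mul_right (Subgroup.mem_center_iff.1 hc.2 u))
  have hdisj : Disjoint A B := by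
    rw [Finset.disjoint_left]
    intro g hg hgB
    obtain ⟨⟨u, z⟩, hc, rfl⟩ := Finset.mem_image.1 hgB
    simp only [hI, hA, Finset.mem_product, Finset.mem_filter, Finset.mem_univ, true_and] at hc hg
    have hu : u = 1 := eq_one_of_sq s (by simpa using mul_mem hg (inv_mem hc.2))
      (hc.1 ▸ pow_orderOf_eq_one u)
    rw [hu, orderOf_one] at hc
    exact absurd hc.1 (by norm_num)
  have hreg : ∑ g ∈ Finset.univ.filter (fun g : G => ¬ p ∣ orderOf g), F g =
      ∑ g ∈ A ∪ B, F g := by
    refine (Finset.sum_subset (fun g hg => Finset.mem_filter.2 ⟨Finset.mem_univ _,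
      (Finset.mem_union.1 hg).elim (hregA g) (hregB g)⟩) fun g hg hgn => ?_).symm
    rcases regular_cases s (Finset.mem_filter.1 hg).2 with h | ⟨u, hu, z, hz, rfl⟩ | ⟨-, h⟩
    · exact absurd (Finset.mem_union_left _ (Finset.mem_filter.2 ⟨Finset.mem_univ _, h⟩)) hgn
    · refine absurd (Finset.mem_union_right _ ?_) hgn
      exact Finset.mem_image.2 ⟨(u, z), Finset.mem_product.2
        ⟨Finset.mem_filter.2 ⟨Finset.mem_univ _, hu⟩, Finset.mem_filter.2 ⟨Finset.mem_univ _, hz⟩⟩,
        rfl⟩
    · simp [hF, h]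
  have hFA : ∀ g ∈ A, F g = ((p - 2 : ℕ) : ℂ) ^ 2 := by
    intro g hg
    have hgc := (Finset.mem_filter.1 hg).2
    have h1 := apply_mul_central ζ hgc 1
    rw [one_mul, apply_one_zeta s.hyp] at h1
    simp only [hF]
    rw [h1, map_mul, map_natCast]
    linear_combination ((p - 2 : ℕ) : ℂ) ^ 2 * lam_mul_conj ζ hgc
  have hFB : ∀ g ∈ B, F g = 1 := by
    intro g hg
    obtain ⟨⟨u, z⟩, hc, rfl⟩ := Finset.mem_image.1 hg
    simp only [hI, hA, Finset.mem_product, Finset.mem_filter, Finset.mem_univ, true_and] at hc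
    simp only [hF]
    rw [apply_mul_central ζ hc.2, zeta_involution s hc.1, map_mul, map_neg, map_one]
    linear_combination lam_mul_conj ζ hc.2
  have hBcard : B.card = I.card * A.card := by
    rw [hB, Finset.card_image_of_injOn, Finset.card_product]
    intro c hc d hd h
    simp only [hI, hA, Finset.coe_product, Set.mem_prod, Finset.mem_coe, Finset.mem_filter,
      Finset.mem_univ, true_and] at hc hd
    obtain ⟨h1, h2⟩ := split_unique s (hc.1 ▸ pow_orderOf_eq_one c.1)
      (hd.1 ▸ pow_orderOf_eq_one d.1) hc.2 hd.2 h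
    exact Prod.ext h1 h2
  rw [Finset.sum_union hdisj, Finset.sum_congr rfl hFA, Finset.sum_congr rfl hFB, Finset.sum_const,
    Finset.sum_const, hBcard, nsmul_eq_mul, nsmul_eq_mul, mul_one] at hreg
  have hsplit := Finset.sum_filter_add_sum_filter_not Finset.univ (fun g : G => p ∣ orderOf g) F
  rw [htot, hreg] at hsplit
  have hAc : A.card = Nat.card (Subgroup.center G) := by
    rw [hA, ← Fintype.card_subtype, Nat.card_eq_fintype_card]
  have hIc : I.card = Nat.card {g : G // orderOf g = 2} := by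
    rw [hI, ← Fintype.card_subtype, Nat.card_eq_fintype_card]
  rw [hAc, hIc] at hsplit
  set K := Nat.card (Subgroup.center G) with hK
  set Sg := ∑ g ∈ Finset.univ.filter (fun g : G => p ∣ orderOf g), F g
  have hKne : (K : ℂ) ≠ 0 := Nat.cast_ne_zero.2 Nat.card_pos.ne'
  have hSg : (p : ℂ) * Sg = (Nat.card G : ℂ) * ((p : ℂ) - 2) :=
    mul_left_cancel₀ (mul_ne_zero two_ne_zero hKne) (by linear_combination hS)
  have : ((p * (K * ((p - 2) ^ 2 + Nat.card {g : G // orderOf g = 2})) : ℕ) : ℂ) =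
      ((2 * Nat.card G : ℕ) : ℂ) := by
    push_cast at hsplit ⊢
    linear_combination (p : ℂ) * hsplit - hSg
  exact_mod_cast this

/-- Conjugacy of involutions, the Sylow `2`-order and the order of the group. -/
theorem order (s : Std p x ζ) :
    (∀ u v : G, orderOf u = 2 → orderOf v = 2 → IsConj u v) ∧
      2 ^ (Nat.card G).factorization 2 = p - 1 ∧
      Nat.card G = p * (p - 1) * (p - 2) * Nat.card (Subgroup.center G) := by
  classical
  haveI := Fintype.ofFinite G
  have h5 := s.hyp.lt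
  set q := 2 ^ (Nat.card G).factorization 2
  set K := Nat.card (Subgroup.center G)
  set i := Nat.card {g : G // orderOf g = 2}
  obtain ⟨u, hu⟩ := exists_prime_orderOf_dvd_card' 2 (two_dvd_card s)
  have hqd : q ∣ p - 1 := by
    have := card_twoPart_dvd s hu
    rwa [card_twoPart s hu] at this
  have hq : q ≤ p - 1 := Nat.le_of_dvd (by omega) hqd
  have hcls : ∀ v : G, orderOf v = 2 →
      ((Finset.univ : Finset G).filter fun g => IsConj v g).card * (q * K) = Nat.card G := by
    intro v hv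
    have h := SmallGroups.Counting.card_isConj_mul (G := G) v
    rw [card_centralizer_inv s hv, card_twoPart s hv, Nat.card_eq_fintype_card,
      Fintype.card_subtype] at h
    exact h
  have hi : i = ((Finset.univ : Finset G).filter fun g => orderOf g = 2).card := by
    show Nat.card _ = _
    rw [Nat.card_eq_fintype_card, Fintype.card_subtype]
  have hsub : ∀ v : G, orderOf v = 2 → ((Finset.univ : Finset G).filter fun g => IsConj v g) ⊆
      (Finset.univ : Finset G).filter fun g => orderOf g = 2 := by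
    intro v hv g hg
    obtain ⟨c, rfl⟩ := isConj_iff.1 (Finset.mem_filter.1 hg).2
    exact Finset.mem_filter.2 ⟨Finset.mem_univ _, by
      rw [← MulAut.conj_apply, MulEquiv.orderOf_eq, hv]⟩
  have hm := moment s
  have hKpos : 0 < K := Nat.card_pos
  have hqpos : 0 < q := Nat.two_pow_pos _
  have hGpos : 0 < Nat.card G := Nat.card_pos
  have hall : ∀ v : G, orderOf v = 2 → IsConj u v := by
    intro v hv
    by_contra hne
    have hdisj : Disjoint ((Finset.univ : Finset G).filter fun g => IsConj u g)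
        ((Finset.univ : Finset G).filter fun g => IsConj v g) := by
      rw [Finset.disjoint_left]
      intro g h1 h2
      exact hne ((Finset.mem_filter.1 h1).2.trans (Finset.mem_filter.1 h2).2.symm)
    have h2 : 2 * Nat.card G ≤ i * (q * K) := by
      rw [two_mul]
      nth_rewrite 1 [← hcls u hu]
      rw [← hcls v hv, ← add_mul, ← Finset.card_union_of_disjoint hdisj, hi]
      exact Nat.mul_le_mul_right _ (Finset.card_le_card (Finset.union_subset (hsub u hu) (hsub v hv)))
    have hexp : q * (2 * Nat.card G) = p * ((p - 2) ^ 2 * (q * K)) + p * (i * (q * K)) := by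
      rw [← hm]; ring
    have h3 : 0 < p * ((p - 2) ^ 2 * (q * K)) := by
      have : 0 < p - 2 := by omega
      positivity
    have h4 := Nat.mul_le_mul_left p h2
    have h6 := Nat.mul_le_mul_right (2 * Nat.card G) (show q ≤ p by omega)
    omega
  have hi1 : i * (q * K) = Nat.card G := by
    rw [← hcls u hu, hi]
    congr 2
    exact Finset.Subset.antisymm (fun g hg => Finset.mem_filter.2
      ⟨Finset.mem_univ _, hall g (Finset.mem_filter.1 hg).2⟩) (hsub u hu)
  have hexp : q * (2 * Nat.card G) = p * ((p - 2) ^ 2 * (q * K)) + p * Nat.card G := by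
    nth_rewrite 2 [← hi1]
    rw [← hm]
    ring
  have hq' : q = p - 1 := by
    obtain ⟨j, hj⟩ := hqd
    rcases j with _ | _ | j
    · omega
    · omega
    · exfalso
      have h2q : 2 * q ≤ p := by
        have : q * 2 ≤ q * (j + 1 + 1) := Nat.mul_le_mul_left q (by omega)
        omega
      have h3 : 0 < p * ((p - 2) ^ 2 * (q * K)) := by
        have : 0 < p - 2 := by omega
        positivity
      have h6 := Nat.mul_le_mul_right (Nat.card G) h2q
      rw [mul_assoc, mul_left_comm] at h6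
      omega
  refine ⟨fun a b ha hb => (hall a ha).symm.trans (hall b hb), hq', ?_⟩
  rw [hq'] at hexp
  obtain ⟨n, rfl⟩ : ∃ n, p = n + 2 := ⟨p - 2, by omega⟩
  simp only [show n + 2 - 1 = n + 1 by omega, show n + 2 - 2 = n by omega] at hexp ⊢
  refine Nat.eq_of_mul_eq_mul_left (show 0 < n by omega) ?_
  nlinarith

end Cfsg.Agent.Lib.DegSubTwo.Count
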