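import Cfsg.Agent.Lib.DegSubTwo.Basic

/-!
# The eigenvalues of `x`

The Galois conjugates of `ζ` which agree with it on the `p`-regular elements have the same central
character, so the column of `x` bounds their number: `x` has `p - 2` distinct eigenvalues, the
missing ones an inverse pair.
-/

set_option autoImplicit false
set_option linter.unusedSectionVars false
set_option linter.style.haveILetI false

namespace Cfsg.Agent.Lib.DegSubTwo.Eigen

open scoped ComplexConjugate
open Cfsg.Agent.Lib.FirstPower Average Periods Cfsg.Agent.Lib.Characters.Basic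
open CharOrbit (IsVPart)
open Family (pow_eq_one_of_order)
open Basic

attribute [local instance] BlocksChars5.Basic.irrFintype

universe u

variable {p : ℕ} [Fact p.Prime] {G : Type u} [Group G] [Finite G] {x : G}
  {ζ : Cfsg.IrrCharacter G}

theorem quot_spec (h : Hyp p x ζ) :
    Nat.card G / p ∣ Nat.card G ∧ ¬ p ∣ Nat.card G / p ∧
      ∀ g : G, ¬ p ∣ orderOf g → orderOf g ∣ Nat.card G / p := by
  obtain ⟨M, hM⟩ := prime_dvd_card h
  have hp : p.Prime := Fact.out
  rw [hM, Nat.mul_div_cancel_left _ hp.pos]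
  refine ⟨dvd_mul_left M p, fun hd => h.sq ?_, fun g hg => ?_⟩
  · rw [hM, sq]; exact mul_dvd_mul_left p hd
  · exact ((hp.coprime_iff_not_dvd.2 hg).symm).dvd_of_dvd_mul_left (hM ▸ orderOf_dvd_natCard g)

theorem exists_fam_exp (h : Hyp p x ζ) (u : (ZMod p)ˣ) :
    ∃ k : ℕ, k.Coprime (Nat.card G) ∧ (k : ZMod p) = (u : ZMod p) ∧
      k ≡ 1 [MOD Nat.card G / p] :=
  exists_exp_pair (prime_dvd_card h) u (quot_spec h).1 (quot_spec h).2.1 (Nat.coprime_one_left _)

/-- The conjugates of `ζ` agreeing with it on the `p`-regular elements. -/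
noncomputable def fam (h : Hyp p x ζ) (u : (ZMod p)ˣ) : Cfsg.IrrCharacter G :=
  pw ζ (exists_fam_exp h u).choose_spec.1

theorem fam_regular (h : Hyp p x ζ) (u : (ZMod p)ˣ) {g : G} (hg : ¬ p ∣ orderOf g) :
    (fam h u : G → ℂ) g = (ζ : G → ℂ) g := by
  rw [fam, pw_apply]
  refine congrArg _ ?_
  calc g ^ (exists_fam_exp h u).choose = g ^ 1 := pow_eq_pow_iff_modEq.2
        ((exists_fam_exp h u).choose_spec.2.2.of_dvd ((quot_spec h).2.2 g hg))
    _ = g := pow_one g

theorem fam_singular (h : Hyp p x ζ) (u : (ZMod p)ˣ) (a : ZMod p) {z : G}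
    (hz : z ∈ Subgroup.center G) :
    (fam h u : G → ℂ) (x ^ a.val * z) =
      lam ζ z * (ζ : G → ℂ) (x ^ ((u : ZMod p) * a).val) := by
  obtain ⟨-, hk1, hk2⟩ := (exists_fam_exp h u).choose_spec
  set k := (exists_fam_exp h u).choose
  have hzk : z ^ k = z := by
    conv_rhs => rw [← pow_one z]
    refine pow_eq_pow_iff_modEq.2 (hk2.of_dvd ((quot_spec h).2.2 z ?_))
    exact ((isVPart_center h z).1 hz).2
  have hxk : (x ^ a.val) ^ k = x ^ ((u : ZMod p) * a).val := by
    rw [← pow_mul, ← pow_val_natCast (pow_eq_one_of_order h.ord) (a.val * k)]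
    congr 2
    push_cast
    rw [hk1, ZMod.natCast_zmod_val, mul_comm]
  rw [fam, pw_apply, (show Commute (x ^ a.val) z from Subgroup.mem_center_iff.1 hz _).mul_pow, hzk,
    apply_mul_central ζ hz, hxk]

theorem lam_fam (h : Hyp p x ζ) (u : (ZMod p)ˣ) {z : G} (hz : z ∈ Subgroup.center G) :
    lam (fam h u) z = lam ζ z := by
  have hreg := ((isVPart_center h z).1 hz).2
  rw [lam, lam, fam_regular h u hreg, fam_regular h u (by
    rw [orderOf_one]; exact (Fact.out : p.Prime).not_dvd_one)]

/-- A `p`-singular element is conjugate to some `x ^ u z`. -/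
theorem exists_conj_singular (h : Hyp p x ζ) {g : G} (hg : p ∣ orderOf g) :
    ∃ (u : (ZMod p)ˣ) (z : G), z ∈ Subgroup.center G ∧ IsConj g (x ^ (u : ZMod p).val * z) := by
  have hp : p.Prime := Fact.out
  obtain ⟨P, hP⟩ := Consequences.exists_sylow h.ord h.sq
  obtain ⟨c, hc⟩ := hg
  have hc0 : c ≠ 0 := fun h0 => (orderOf_pos g).ne' (by rw [hc, h0, mul_zero])
  have hord : orderOf (g ^ c) = p := by
    rw [orderOf_pow_of_dvd hc0 (Dvd.intro_left p hc.symm), hc,
      Nat.mul_div_cancel _ (Nat.pos_of_ne_zero hc0)]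
  obtain ⟨Q, hQ⟩ := Consequences.exists_sylow hord h.sq
  obtain ⟨b, hb⟩ := MulAction.exists_smul_eq G Q P
  have hmem : b * g ^ c * b⁻¹ ∈ Subgroup.zpowers x := by
    rw [← hP, ← hb, Sylow.coe_subgroup_smul, Subgroup.mem_smul_pointwise_iff_exists]
    exact ⟨g ^ c, hQ ▸ Subgroup.mem_zpowers _, by simp [MulAut.smul_def, MulAut.conj_apply]⟩
  obtain ⟨a, ha⟩ := (mem_zpowers_iff_val (pow_eq_one_of_order h.ord)).1 hmem
  have ha0 : a ≠ 0 := by
    rintro rfl
    rw [ZMod.val_zero, pow_zero, eq_comm, conj_eq_one_iff] at ha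
    rw [ha, orderOf_one] at hord
    exact hp.ne_one hord.symm
  set g' := b * g * b⁻¹ with hg'
  have hcom : g' ∈ Subgroup.centralizer ({x} : Set G) := by
    rw [← centralizer_pow_unit h (Units.mk0 a ha0), Subgroup.mem_centralizer_singleton_iff,
      Units.val_mk0, ha, ← conj_pow, ← hg']
    exact ((Commute.refl g').pow_right c).eq
  obtain ⟨a', z, hz⟩ := exists_decomp h.ord h.sq (isVPart_center h) hcom
  have ha'0 : a' ≠ 0 := by
    rintro rfl
    rw [ZMod.val_zero, pow_zero, one_mul] at hz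
    apply ((isVPart_center h z).1 z.2).2
    rw [← hz, hg', ← MulAut.conj_apply, MulEquiv.orderOf_eq, hc]
    exact dvd_mul_right p c
  exact ⟨Units.mk0 a' ha'0, z, z.2, isConj_iff.2 ⟨b, hz⟩⟩

theorem ext_classFun (h : Hyp p x ζ) {χ ψ : Cfsg.IrrCharacter G}
    (hreg : ∀ g, ¬ p ∣ orderOf g → (χ : G → ℂ) g = (ψ : G → ℂ) g)
    (hsing : ∀ (u : (ZMod p)ˣ), ∀ z ∈ Subgroup.center G,
      (χ : G → ℂ) (x ^ (u : ZMod p).val * z) = (ψ : G → ℂ) (x ^ (u : ZMod p).val * z)) :
    χ = ψ := by
  refine Subtype.ext (funext fun g => ?_)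
  by_cases hg : p ∣ orderOf g
  · obtain ⟨u, z, hz, hc⟩ := exists_conj_singular h hg
    rw [classFunction_apply_of_isConj (isClassFunction_irr χ) hc,
      classFunction_apply_of_isConj (isClassFunction_irr ψ) hc]
    exact hsing u z hz
  · exact hreg g hg

/-- The normalised situation. -/
structure Std {G : Type u} [Group G] (p : ℕ) [Fact p.Prime] (x : G) (ζ : Cfsg.IrrCharacter G) :
    Prop where
  hyp : Hyp p x ζ
  val : ∀ u : (ZMod p)ˣ, (ζ : G → ℂ) (x ^ (u : ZMod p).val) =
    -(chr p (u : ZMod p) + chr p (-(u : ZMod p)))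

set_option maxHeartbeats 1000000 in
theorem exists_mult_pair (h : Hyp p x ζ) :
    ∃ r : (ZMod p)ˣ, ∀ u : (ZMod p)ˣ, (ζ : G → ℂ) (x ^ (u : ZMod p).val) =
      -(chr p ((r * u : (ZMod p)ˣ) : ZMod p) + chr p (-((r * u : (ZMod p)ˣ) : ZMod p))) := by
  classical
  have hp : p.Prime := Fact.out
  have hxp := pow_eq_one_of_order h.ord
  obtain ⟨m, hm⟩ := exists_mult hxp (V := ⊥)
    (fun v hv => by rw [Subgroup.mem_bot.mp hv]; exact Commute.one_right x) (isCharacter_irr ζ)
  simp only [Consequences.aval_bot] at hm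
  set F : ZMod p → ℂ := fun a => (ζ : G → ℂ) (x ^ a.val) with hF
  have hFm : ∀ a, F a = ∑ l, (m l : ℂ) * chr p (l * a) := hm
  have hFinv : ∀ j : ZMod p, ∑ a, F a * chr p (-(j * a)) = (p : ℂ) * m j := by
    intro j
    simp only [hFm, Finset.sum_mul]
    rw [Finset.sum_comm]
    have : ∀ l : ZMod p, ∑ a, (m l : ℂ) * chr p (l * a) * chr p (-(j * a)) =
        if l = j then (m l : ℂ) * p else 0 := by
      intro l
      rw [show (if l = j then (m l : ℂ) * p else 0) = (m l : ℂ) * (if l = j then (p : ℂ) else 0) by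
        split_ifs <;> simp, ← sum_chr_mul_chr l j, Finset.mul_sum]
      exact Finset.sum_congr rfl fun a _ => by rw [mul_comm a l, mul_comm a j]; ring
    rw [Finset.sum_congr rfl fun l _ => this l, Finset.sum_ite_eq', if_pos (Finset.mem_univ j),
      mul_comm]
  -- the stabiliser of the multiplicities
  let E : Subgroup (ZMod p)ˣ :=
    { carrier := {u | ∀ l : ZMod p, m ((u : ZMod p) * l) = m l}
      one_mem' := fun l => by simp
      mul_mem' := fun {a b} ha hb l => by rw [Units.val_mul, mul_assoc, ha, hb]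
      inv_mem' := fun {a} ha l => by
        rw [← ha (((a⁻¹ : (ZMod p)ˣ) : ZMod p) * l), ← mul_assoc, ← Units.val_mul, mul_inv_cancel,
          Units.val_one, one_mul] }
  have hfam : ∀ u w : (ZMod p)ˣ, fam h u = fam h w ↔ u⁻¹ * w ∈ E := by
    intro u w
    constructor
    · intro he l
      have hall : ∀ a : ZMod p, F ((u : ZMod p) * a) = F ((w : ZMod p) * a) := by
        intro a
        have := congrArg (fun χ : Cfsg.IrrCharacter G => (χ : G → ℂ) (x ^ a.val * 1)) he
        simp only [fam_singular h _ a (one_mem (Subgroup.center G)), lam_one, one_mul] at this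
        exact this
      have hkey : ∀ j : ZMod p,
          m (((u⁻¹ : (ZMod p)ˣ) : ZMod p) * j) = m (((w⁻¹ : (ZMod p)ˣ) : ZMod p) * j) := by
        intro j
        have hreind : ∀ v : (ZMod p)ˣ, ∑ a, F ((v : ZMod p) * a) * chr p (-(j * a)) =
            (p : ℂ) * m (((v⁻¹ : (ZMod p)ˣ) : ZMod p) * j) := by
          intro v
          rw [← hFinv]
          refine Fintype.sum_equiv v.mulLeft _ _ fun a => ?_
          simp only [Units.mulLeft_apply]
          congr 2
          rw [mul_assoc, mul_left_comm j, ← mul_assoc, Units.inv_mul, one_mul]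
        have := (hreind u).symm.trans ((Finset.sum_congr rfl fun a _ => by rw [hall a]).trans (hreind w))
        exact_mod_cast mul_left_cancel₀ (Nat.cast_ne_zero.2 hp.ne_zero) this
      have := hkey ((w : ZMod p) * l)
      rw [Units.val_mul, mul_assoc, this, ← mul_assoc, Units.inv_mul, one_mul]
    · intro he
      refine ext_classFun h (fun g hg => by rw [fam_regular h u hg, fam_regular h w hg])
        fun a z hz => ?_
      rw [fam_singular h u _ hz, fam_singular h w _ hz]
      congr 1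
      show F _ = F _
      rw [hFm, hFm]
      refine Fintype.sum_equiv (u⁻¹ * w)⁻¹.mulLeft _ _ fun l => ?_
      simp only [Units.mulLeft_apply]
      congr 1
      · rw [(inv_mem he : (u⁻¹ * w)⁻¹ ∈ E)]
      · congr 1
        rw [mul_inv_rev, inv_inv, Units.val_mul]
        rw [show ((w⁻¹ : (ZMod p)ˣ) : ZMod p) * (u : ZMod p) * l * ((w : ZMod p) * (a : ZMod p)) =
          ((w⁻¹ : (ZMod p)ˣ) : ZMod p) * (w : ZMod p) * (l * ((u : ZMod p) * (a : ZMod p))) by ring,
          Units.inv_mul, one_mul]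
  -- the inequality
  set n := p - 2 with hn
  set O := (Finset.univ : Finset (ZMod p)ˣ).image (fam h) with hO
  have hslice := slice_le h ζ 1 O fun χ hχ z hz => by
    obtain ⟨u, -, rfl⟩ := Finset.mem_image.1 hχ
    exact lam_fam h u hz
  rw [Units.val_one, pow_val_one hxp] at hslice
  have hfib : ∑ u : (ZMod p)ˣ, Complex.normSq (F (u : ZMod p)) ≤ (Nat.card E : ℝ) * p := by
    have hval : ∀ u : (ZMod p)ˣ, F (u : ZMod p) = (fam h u : G → ℂ) x := by
      intro u
      have := fam_singular h u 1 (one_mem (Subgroup.center G))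
      rw [pow_val_one hxp, mul_one, mul_one, lam_one, one_mul] at this
      exact this.symm
    simp only [hval]
    rw [← Finset.sum_fiberwise_of_maps_to (g := fam h) (t := O)
      (fun u _ => Finset.mem_image_of_mem _ (Finset.mem_univ u))]
    calc _ = ∑ χ ∈ O, (Nat.card E : ℝ) * Complex.normSq ((χ : G → ℂ) x) := by
          refine Finset.sum_congr rfl fun χ hχ => ?_
          obtain ⟨w, -, rfl⟩ := Finset.mem_image.1 hχ
          rw [Finset.sum_congr rfl (fun u hu => by rw [(Finset.mem_filter.1 hu).2]),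
            Finset.sum_const, nsmul_eq_mul]
          congr 2
          rw [Nat.card_eq_fintype_card, ← Finset.card_univ (α := E)]
          refine (Finset.card_bij (fun (k : E) _ => w * (k : (ZMod p)ˣ)) ?_ ?_ ?_).symm
          · intro k _
            rw [Finset.mem_filter, eq_comm, hfam, inv_mul_cancel_left]
            exact ⟨Finset.mem_univ _, k.2⟩
          · intro k _ l _ e
            exact Subtype.ext (mul_left_cancel e)
          · intro u hu
            rw [Finset.mem_filter, eq_comm, hfam] at hu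
            exact ⟨⟨w⁻¹ * u, hu.2⟩, Finset.mem_univ _, mul_inv_cancel_left w u⟩
      _ ≤ _ := by
          rw [← Finset.mul_sum]
          exact mul_le_mul_of_nonneg_left hslice (Nat.cast_nonneg _)
  set Q : ℕ := ∑ l, m l ^ 2 with hQ
  have hF0 : F 0 = (n : ℂ) := by simp [hF, apply_one_zeta h, hn]
  have hsumn : ∑ l, m l = n := by
    have := hFm 0
    rw [hF0] at this
    simp only [mul_zero, chr_zero, mul_one] at this
    exact_mod_cast this.symm
  have hpar : ∑ u : (ZMod p)ˣ, Complex.normSq (F (u : ZMod p)) = (p : ℝ) * Q - (n : ℝ) * n := by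
    have h1 : ∑ a, F a * conj (F a) = (p : ℂ) * Q := by
      conv_lhs => enter [2, a]; rw [hFm a, map_sum, Finset.mul_sum]
      rw [Finset.sum_comm, hQ]
      push_cast
      rw [Finset.mul_sum]
      refine Finset.sum_congr rfl fun j _ => ?_
      simp only [← hFm, map_mul, map_natCast, conj_chr]
      rw [show (p : ℂ) * (m j : ℂ) ^ 2 = (m j : ℂ) * ((p : ℂ) * m j) by ring, ← hFinv j,
        Finset.mul_sum]
      exact Finset.sum_congr rfl fun a _ => by ring
    rw [Consequences.sum_zmod_split, hF0, map_natCast] at h1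
    simp only [Complex.mul_conj] at h1
    have : ((∑ u : (ZMod p)ˣ, Complex.normSq (F (u : ZMod p)) : ℝ) : ℂ) =
        (((p : ℝ) * Q - (n : ℝ) * n : ℝ) : ℂ) := by
      push_cast
      linear_combination h1
    exact_mod_cast this
  rw [hpar] at hfib
  have hineq : (p : ℤ) * Q - (n : ℤ) * n ≤ (Nat.card E : ℤ) * p := by exact_mod_cast hfib
  rw [Consequences.sum_zmod_split] at hsumn hQ
  set e := Nat.card E with he
  have h5 : (5 : ℤ) < p := by exact_mod_cast h.lt
  have hnp : (n : ℤ) = p - 2 := by rw [hn]; have := h.lt; omega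
  have hkey : (Q : ℤ) + 2 ≤ (n : ℤ) + e := by
    by_contra hlt
    push Not at hlt
    have : (p : ℤ) * ((n : ℤ) + e - 1) ≤ p * Q := mul_le_mul_of_nonneg_left (by omega) (by omega)
    rw [hnp] at this hineq
    nlinarith
  let b : (ZMod p)ˣ → ℕ := fun u => m (u : ZMod p)
  have hb : b = fun u : (ZMod p)ˣ => m (u : ZMod p) := rfl
  have hEb : ∀ e' ∈ E, ∀ u, b (e' * u) = b u := fun e' he' u => by
    simp only [hb, Units.val_mul]
    exact he' _
  have hfibE : ∀ S : Finset (ZMod p)ˣ, (∀ u ∈ S, ∀ e' ∈ E, e' * u ∈ S) → e ∣ S.card := by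
    intro S hS
    rw [Finset.card_eq_sum_card_image (fun u : (ZMod p)ˣ => (QuotientGroup.mk u : (ZMod p)ˣ ⧸ E)) S]
    refine Finset.dvd_sum fun q hq => ?_
    obtain ⟨u0, hu0, rfl⟩ := Finset.mem_image.1 hq
    rw [he, Nat.card_eq_fintype_card, ← card_fiber (E := E) (QuotientGroup.mk u0)]
    refine dvd_of_eq (congrArg Finset.card ?_)
    ext u
    simp only [Finset.mem_filter, Finset.mem_univ, true_and]
    refine ⟨fun hu => ⟨?_, hu⟩, fun hu => hu.2⟩
    have hmem : u * u0⁻¹ ∈ E := by
      have := QuotientGroup.eq.1 hu.symm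
      rwa [mul_comm] at this
    have := hS u0 hu0 _ hmem
    rwa [inv_mul_cancel_right] at this
  have hle1 : ∀ u, b u ≤ 1 := by
    by_contra hcon
    push Not at hcon
    obtain ⟨u0, hu0⟩ := hcon
    set S := (Finset.univ : Finset (ZMod p)ˣ).filter fun u => 2 ≤ b u with hS
    have hcardS : e ≤ S.card := Nat.le_of_dvd
      (Finset.card_pos.2 ⟨u0, Finset.mem_filter.2 ⟨Finset.mem_univ _, hu0⟩⟩)
      (hfibE S fun u hu e' he' => Finset.mem_filter.2
        ⟨Finset.mem_univ _, by rw [hEb e' he']; exact (Finset.mem_filter.1 hu).2⟩)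
    have hstep : ∑ u, b u + 2 * S.card ≤ ∑ u, b u ^ 2 := by
      have : ∀ u ∈ (Finset.univ : Finset (ZMod p)ˣ), b u + (if 2 ≤ b u then 2 else 0) ≤ b u ^ 2 := by
        intro u _
        split_ifs with h2
        · nlinarith
        · rw [add_zero]; exact Nat.le_self_pow two_ne_zero _
      refine le_trans (le_of_eq ?_) (Finset.sum_le_sum this)
      rw [Finset.sum_add_distrib, hS, Finset.sum_ite, Finset.sum_const_zero, add_zero,
        Finset.sum_const, smul_eq_mul, mul_comm]
    have hm0 : m 0 ≤ m 0 ^ 2 := Nat.le_self_pow two_ne_zero _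
    simp only [hb] at hstep
    have e1 : ∑ u : (ZMod p)ˣ, m (u : ZMod p) + m 0 = n := by omega
    omega
  set T := (Finset.univ : Finset (ZMod p)ˣ).filter fun u => b u = 1 with hT
  have hbT : ∀ u, b u = if b u = 1 then 1 else 0 := fun u => by
    have := hle1 u
    split_ifs with h' <;> omega
  have hsumb : ∑ u : (ZMod p)ˣ, m (u : ZMod p) = T.card := by
    rw [hT, Finset.card_filter]
    exact Finset.sum_congr rfl fun u _ => hbT u
  have hsumb2 : ∑ u : (ZMod p)ˣ, m (u : ZMod p) ^ 2 = T.card := by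
    rw [hT, Finset.card_filter]
    refine Finset.sum_congr rfl fun u _ => ?_
    show b u ^ 2 = _
    split_ifs with h1
    · rw [h1, one_pow]
    · have := hle1 u
      rw [show b u = 0 by omega]; rfl
  rw [hsumb] at hsumn
  rw [hsumb2] at hQ
  have hm0 : (m 0 : ℤ) * m 0 - m 0 + 2 ≤ e := by
    have : (Q : ℤ) = m 0 * m 0 + T.card := by rw [hQ]; push_cast; ring
    omega
  have hdvdT : e ∣ T.card := hfibE T fun u hu e' he' => Finset.mem_filter.2
    ⟨Finset.mem_univ _, by rw [hEb e' he']; exact (Finset.mem_filter.1 hu).2⟩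
  have hdvdp : e ∣ p - 1 := by
    rw [he, ← ZMod.card_units p, ← Nat.card_eq_fintype_card]
    exact Subgroup.card_subgroup_dvd_card E
  have hdvd0 : e ∣ m 0 + 1 := by
    have : m 0 + 1 + T.card = p - 1 := by have := h.lt; omega
    exact (Nat.dvd_add_left hdvdT).1 (this ▸ hdvdp)
  have hge := Nat.le_of_dvd (Nat.succ_pos _) hdvd0
  have he2 : e = 2 := by
    by_contra hne
    have h3 : 3 ≤ e := by
      have : (m 0 : ℤ) ≤ (m 0 : ℤ) * m 0 := by exact_mod_cast Nat.le_mul_self (m 0)
      omega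
    have : (e : ℤ) - 1 ≤ m 0 := by omega
    nlinarith
  have hm01 : m 0 = 1 := by
    rw [he2] at hm0 hdvd0
    have : m 0 ≤ 1 := by nlinarith
    interval_cases hm00 : m 0
    · norm_num at hdvd0
    · rfl
  have hneg : (-1 : (ZMod p)ˣ) ∈ E := by
    obtain ⟨a, ha1⟩ : ∃ a : E, a ≠ 1 := by
      haveI : Nontrivial E := Finite.one_lt_card_iff_nontrivial.1 (by omega)
      exact exists_ne 1
    have ha2 : a ^ 2 = 1 := he2 ▸ pow_card_eq_one'
    have : ((a : (ZMod p)ˣ) : ZMod p) * ((a : (ZMod p)ˣ) : ZMod p) = 1 := by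
      have := congrArg (fun b : E => ((b : (ZMod p)ˣ) : ZMod p)) ha2
      simpa [sq] using this
    rcases mul_self_eq_one_iff.1 this with h1 | h1
    · exact absurd (Subtype.ext (Units.ext h1)) ha1
    · have he' : (a : (ZMod p)ˣ) = -1 := Units.ext (by simpa using h1)
      exact he' ▸ a.2
  -- the missing pair
  obtain ⟨r, hr⟩ : ∃ r, r ∉ T := by
    by_contra hall
    push Not at hall
    have : T.card = p - 1 := by
      rw [Finset.eq_univ_of_forall hall, Finset.card_univ, ZMod.card_units]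
    have := h.lt
    omega
  have hrneg : -r ∉ T := fun hh => hr (by
    have := hEb _ hneg (-r)
    rw [neg_one_mul, neg_neg] at this
    exact Finset.mem_filter.2 ⟨Finset.mem_univ _, this.trans (Finset.mem_filter.1 hh).2⟩)
  have hr2 : r ≠ -r := by
    intro hh
    have h0 : ((2 : ℕ) : ZMod p) * (r : ZMod p) = 0 := by
      have := congrArg (fun u : (ZMod p)ˣ => (u : ZMod p)) hh
      simp only [Units.val_neg] at this
      linear_combination this
    rcases mul_eq_zero.1 h0 with h1 | h1
    · have := Nat.le_of_dvd two_pos ((ZMod.natCast_eq_zero_iff _ _).1 h1)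
      have := h.lt
      omega
    · exact r.ne_zero h1
  have hcompl : ∀ u, u ∉ T ↔ u = r ∨ u = -r := by
    have hsub : ({r, -r} : Finset (ZMod p)ˣ) ⊆ Tᶜ := by
      intro u hu
      rcases Finset.mem_insert.1 hu with rfl | hu
      · exact Finset.mem_compl.2 hr
      · rw [Finset.mem_singleton] at hu; exact Finset.mem_compl.2 (hu ▸ hrneg)
    have heq := Finset.eq_of_subset_of_card_le hsub (by
      rw [Finset.card_compl, ZMod.card_units, Finset.card_pair hr2]
      have := h.lt
      omega)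
    intro u
    rw [← Finset.mem_compl, ← heq]
    simp
  refine ⟨r, fun u => ?_⟩
  show F (u : ZMod p) = _
  rw [hFm, Consequences.sum_zmod_split, zero_mul, chr_zero, hm01, Nat.cast_one, mul_one]
  have hval : ∀ w : (ZMod p)ˣ, (m (w : ZMod p) : ℂ) * chr p ((w : ZMod p) * u) =
      chr p ((w : ZMod p) * u) -
        if w ∈ ({r, -r} : Finset (ZMod p)ˣ) then chr p ((w : ZMod p) * u) else 0 := by
    intro w
    have hw := hbT w
    by_cases hwT : w ∈ T
    · rw [if_neg (fun hmem => (hcompl w).2 (by simpa using hmem) hwT)]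
      have : b w = 1 := (Finset.mem_filter.1 hwT).2
      simp only [hb] at this
      simp [this]
    · rw [if_pos (by simpa using (hcompl w).1 hwT)]
      have : b w ≠ 1 := fun h1 => hwT (Finset.mem_filter.2 ⟨Finset.mem_univ _, h1⟩)
      rw [if_neg this] at hw
      simp only [hb] at hw
      simp [hw]
  rw [Finset.sum_congr rfl fun w _ => hval w, Finset.sum_sub_distrib, Finset.sum_ite_mem,
    Finset.univ_inter, Finset.sum_pair hr2]
  have hsum : ∑ w : (ZMod p)ˣ, chr p ((w : ZMod p) * u) = -1 := by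
    have h1 := sum_chr_units (p := p) (u : ZMod p)
    rw [if_neg u.ne_zero] at h1
    rw [← h1]
    exact Finset.sum_congr rfl fun w _ => by rw [mul_comm]
  rw [hsum]
  push_cast
  rw [neg_mul]
  ring

theorem exists_std (h : Hyp p x ζ) : ∃ y, Std p y ζ := by
  obtain ⟨r, hr⟩ := exists_mult_pair h
  have hxp := pow_eq_one_of_order h.ord
  refine ⟨x ^ ((r⁻¹ : (ZMod p)ˣ) : ZMod p).val,
    ⟨{ h with ord := orderOf_pow_unit h r⁻¹, gen := ?_ }, fun u => ?_⟩⟩
  · refine eq_top_iff.2 (h.gen ▸ Subgroup.normalClosure_le_normal ?_)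
    intro y hy
    rw [Set.mem_singleton_iff] at hy
    rw [hy]
    have := pow_mem (Subgroup.subset_normalClosure (Set.mem_singleton
      (x ^ ((r⁻¹ : (ZMod p)ˣ) : ZMod p).val))) (r : ZMod p).val
    rwa [← pow_val_mul hxp, ← Units.val_mul, inv_mul_cancel, Units.val_one, pow_val_one hxp] at this
  · rw [← pow_val_mul hxp, ← Units.val_mul, hr, mul_inv_cancel_left]

end Cfsg.Agent.Lib.DegSubTwo.Eigen
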