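import Cfsg.Agent.Lib.FirstPower.ModularTrace
import Cfsg.Agent.Lib.FirstPower.Family
import Mathlib.RingTheory.Artinian.Module

/-!
# The centraliser of a first-power element in a representation of degree below the prime

`p` divides `|G|` once, `x` has order `p` and its conjugates generate `G`.  In every representation
in characteristic `p` of degree less than `p`, the elements of order prime to `p` centralising `x`
commute with the image of `G`.  The transfer from the normaliser gives that a commuting
endomorphism of `N(⟨x⟩)` agrees on the fixed space of `x` with one of `G`; if a Jordan block of `x`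
is longer than `p / 2` it is the only one of its length, so its socle is a line stable under
`N(⟨x⟩)`.
-/

set_option autoImplicit false
set_option linter.unusedSectionVars false
set_option linter.style.haveILetI false

namespace Cfsg.Agent.Lib.DegSubTwo.Modular

open Module Cfsg.Agent.Lib.FirstPower Cfsg.Agent.Lib.FirstPower.ModularTrace
open CharOrbit (IsVPart)

universe w

variable {p : ℕ} [Fact p.Prime] {G : Type*} [Group G] [Finite G] {x : G}
variable {k : Type*} [Field k] [CharP k p]

section
variable {V : Type*} [AddCommGroup V] [Module k V] [FiniteDimensional k V]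

theorem sub_pow_eq_zero (A : G →* Module.End k V) (hx : orderOf x = p)
    (hV : finrank k V < p) : (A x - 1) ^ finrank k V = 0 := by
  rcases subsingleton_or_nontrivial V with hs | hs
  · exact LinearMap.ext fun f => Subsingleton.elim _ _
  haveI : CharP (Module.End k V) p :=
    charP_of_injective_algebraMap (R := k) (FaithfulSMul.algebraMap_injective k _) p
  refine pow_finrank_eq_zero ⟨p, ?_⟩
  rw [sub_pow_char_of_commute p (Commute.one_right (A x)), one_pow, ← map_pow, ← hx,
    pow_orderOf_eq_one, map_one, sub_self]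

/-- An endomorphism commuting with the normaliser agrees on the fixed space of `x` with one
commuting with `G`. -/
theorem exists_transfer (A : G →* Module.End k V) (hx : orderOf x = p)
    (h2 : ¬ p ^ 2 ∣ Nat.card G) (hV : finrank k V < p) (φ : Module.End k V)
    (hφ : ∀ g ∈ Subgroup.normalizer (Subgroup.zpowers x : Set G), Commute (A g) φ) :
    ∃ Φ : Module.End k V, (∀ g, Commute (A g) Φ) ∧ ∀ f, A x f = f → Φ f = φ f := by
  classical
  have hp : p.Prime := Fact.out
  have hxp : x ^ p = 1 := hx ▸ pow_orderOf_eq_one x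
  set P := Subgroup.zpowers x with hP
  haveI := Fintype.ofFinite (G ⧸ P)
  let ψ : G ⧸ P → Module.End k V := fun c => Quotient.liftOn' c (fun g => A g * φ * A g⁻¹) (by
    intro a b hab
    rw [QuotientGroup.leftRel_apply] at hab
    have hc := hφ _ (Subgroup.le_normalizer hab : a⁻¹ * b ∈ Subgroup.normalizer (P : Set G))
    show A a * φ * A a⁻¹ = A b * φ * A b⁻¹
    rw [show A b = A a * A (a⁻¹ * b) by rw [← map_mul, mul_inv_cancel_left], mul_assoc (A a) (A _),
      hc.eq, ← mul_assoc, mul_assoc (A a * φ) (A (a⁻¹ * b)), ← map_mul,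
      show a⁻¹ * b * b⁻¹ = a⁻¹ by group])
  have hψ : ∀ g : G, ψ (g : G ⧸ P) = A g * φ * A g⁻¹ := fun g => rfl
  have hψsmul : ∀ (g : G) (c : G ⧸ P), ψ (g • c) = A g * ψ c * A g⁻¹ := by
    intro g c
    induction c using QuotientGroup.induction_on with
    | _ a =>
      rw [show g • (a : G ⧸ P) = ((g * a : G) : G ⧸ P) from rfl, hψ, hψ, mul_inv_rev, map_mul,
        map_mul]
      simp only [mul_assoc]
  set T := ∑ c : G ⧸ P, ψ c with hT
  have hTcomm : ∀ g, Commute (A g) T := by
    intro g
    have h1 : A g * T * A g⁻¹ = T := by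
      rw [hT, Finset.mul_sum, Finset.sum_mul]
      exact Fintype.sum_equiv (MulAction.toPerm g) _ _ fun c => (hψsmul g c).symm
    have := congrArg (· * A g) h1
    simp only [mul_assoc, ← map_mul, inv_mul_cancel, map_one, mul_one] at this
    exact this
  set F := Finset.univ.filter (fun c : G ⧸ P => x • c = c) with hF
  set S := Finset.univ.filter (fun c : G ⧸ P => ¬ x • c = c) with hS
  have hfix : ∀ c ∈ F, ψ c = φ := by
    intro c hc
    rw [hF, Finset.mem_filter] at hc
    induction c using QuotientGroup.induction_on with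
    | _ a =>
      have h1 : a⁻¹ * x * a ∈ P := by
        have h := QuotientGroup.eq.mp (show ((x * a : G) : G ⧸ P) = a from hc.2)
        have := inv_mem h
        rwa [mul_inv_rev, inv_inv, ← mul_assoc] at this
      have haN : a⁻¹ ∈ Subgroup.normalizer (P : Set G) := by
        rw [Subgroup.mem_normalizer_iff_map_conj_eq]
        refine Subgroup.eq_of_le_of_card_ge ?_ (le_of_eq ?_)
        · rw [hP, MonoidHom.map_zpowers, Subgroup.zpowers_le]
          simpa [MulAut.conj_apply] using h1
        · exact Nat.card_congr (Subgroup.equivMapOfInjective P (MulAut.conj a⁻¹).toMonoidHom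
            (MulAut.conj a⁻¹).injective).toEquiv
      rw [hψ, (hφ _ (by simpa using inv_mem haN)).eq, mul_assoc, ← map_mul, mul_inv_cancel,
        map_one, mul_one]
  have hσp : ∀ c : G ⧸ P, ((MulAction.toPerm x : Equiv.Perm (G ⧸ P)) ^ p) c = c := by
    intro c
    rw [show (MulAction.toPerm x : Equiv.Perm (G ⧸ P)) = MulAction.toPermHom G (G ⧸ P) x from rfl,
      ← map_pow, hxp, map_one]
    rfl
  obtain ⟨hdvd, a, ha⟩ := exists_norm_form (MulAction.toPerm x) hσp ψ (A x) (A x⁻¹)
    (fun c => hψsmul x c) S
    (fun c hc => by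
      simp only [hS, Finset.mem_filter, Finset.mem_univ, true_and] at hc ⊢
      exact fun h => hc (MulAction.injective x h))
    (fun c hc => by
      simp only [hS, Finset.mem_filter, Finset.mem_univ, true_and] at hc
      exact hc)
  set m : k := (F.card : k) with hm
  have hm0 : m ≠ 0 := by
    rw [hm, Ne, CharP.cast_eq_zero_iff k p]
    intro hd
    have h1 : p ∣ Fintype.card (G ⧸ P) := by
      rw [← Finset.card_univ,
        ← Finset.card_filter_add_card_filter_not (fun c : G ⧸ P => x • c = c)]
      exact Nat.dvd_add hd hdvd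
    apply h2
    rw [← Subgroup.card_mul_index P, hP, Nat.card_zpowers, hx, sq, Subgroup.index,
      Nat.card_eq_fintype_card]
    exact Nat.mul_dvd_mul_left p h1
  refine ⟨m⁻¹ • T, fun g => (hTcomm g).smul_right _, fun f hf => ?_⟩
  have hinv : ∀ i : ℕ, ((A x⁻¹) ^ i) f = f := by
    intro i
    induction i with
    | zero => simp
    | succ i ih =>
      rw [pow_succ, Module.End.mul_apply]
      have : A x⁻¹ f = f := by
        conv_lhs => rw [← hf, ← Module.End.mul_apply, ← map_mul, inv_mul_cancel, map_one]
        rfl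
      rw [this, ih]
  have hnil : (A x - 1) ^ (p - 1) = 0 :=
    pow_eq_zero_of_le (by omega) (sub_pow_eq_zero A hx hV)
  have hq : (∑ c ∈ S, ψ c) f = 0 := by
    rw [ha, LinearMap.sum_apply]
    simp only [Module.End.mul_apply, hinv]
    rw [← LinearMap.sum_apply, (sum_pow_eq_sub_pow (k := k) (A x)).trans hnil]
    rfl
  have hTf : T f = m • φ f := by
    rw [hT, ← Finset.sum_filter_add_sum_filter_not Finset.univ (fun c : G ⧸ P => x • c = c),
      LinearMap.add_apply, hq, add_zero, Finset.sum_congr rfl hfix, Finset.sum_const, hm,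
      LinearMap.smul_apply, Nat.cast_smul_eq_nsmul]
  rw [LinearMap.smul_apply, hTf, smul_smul, inv_mul_cancel₀ hm0, one_smul]

theorem conjRep_sub_one_pow' (A : G →* Module.End k V) {a : ℕ}
    (hd0 : (A x - 1) ^ a = 0) (ha : 2 * a ≤ p) :
    (conjRep A x - 1) ^ (p - 1) = 0 := by
  rcases Nat.eq_zero_or_pos a with rfl | hapos
  · rw [pow_zero] at hd0
    haveI : Subsingleton V := ⟨fun u w => by
      simpa using (LinearMap.congr_fun hd0 u).trans (LinearMap.congr_fun hd0 w).symm⟩
    exact LinearMap.ext fun f => Subsingleton.elim _ _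
  set d := A x - 1 with hd
  set L : Module.End k (Module.End k V) := LinearMap.mulLeft k d
  set R : Module.End k (Module.End k V) := LinearMap.mulRight k d
  set J : Module.End k (Module.End k V) := LinearMap.mulRight k (A x⁻¹)
  have h2 : A x * A x⁻¹ = 1 := by rw [← map_mul, mul_inv_cancel, map_one]
  have hsplit : conjRep A x - 1 = J * (L - R) := by
    refine LinearMap.ext fun f => ?_
    show conjRep A x f - f = (d * f - f * d) * A x⁻¹
    rw [conjRep_apply, hd]
    simp only [sub_mul, mul_sub, one_mul, mul_one, mul_assoc, h2]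
    abel
  have hdJ : Commute d (A x⁻¹) :=
    (((show Commute x x⁻¹ from Commute.inv_right (Commute.refl x)).map A)).sub_left
      (Commute.one_left _)
  have hJ : Commute J (L - R) := by
    refine LinearMap.ext fun f => ?_
    show (d * f - f * d) * A x⁻¹ = d * (f * A x⁻¹) - f * A x⁻¹ * d
    rw [sub_mul, mul_assoc, mul_assoc f d, hdJ.eq, ← mul_assoc f]
  have hLR : Commute L (-R) := (show Commute L R from LinearMap.commute_mulLeft_right d d).neg_right
  have hL : L ^ a = 0 := by rw [LinearMap.pow_mulLeft, hd0, LinearMap.mulLeft_zero_eq_zero]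
  have hR : (-R) ^ a = 0 := by
    have h0 : R ^ a = 0 := by
      rw [LinearMap.pow_mulRight, hd0, LinearMap.mulRight_zero_eq_zero]
    refine (neg_pow R _).trans ?_
    rw [h0, mul_zero]
  rw [hsplit, hJ.mul_pow, sub_eq_add_neg,
    hLR.add_pow_eq_zero_of_add_le_succ_of_pow_eq_zero hL hR (by omega), mul_zero]

/-- `commute_image`, when all Jordan blocks of `x` have length at most `p / 2`. -/
theorem commute_of_short (A : G →* Module.End k V) (hx : orderOf x = p)
    (h2 : ¬ p ^ 2 ∣ Nat.card G) (hgen : Subgroup.normalClosure ({x} : Set G) = ⊤)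
    (hV : finrank k V < p) {a : ℕ} (hd0 : (A x - 1) ^ a = 0) (ha : 2 * a ≤ p)
    {v : G} (hv : Commute x v) (hvp : ¬ p ∣ orderOf v) (g : G) :
    Commute (A v) (A g) := by
  rcases subsingleton_or_nontrivial V with hs | hs
  · exact LinearMap.ext fun f => Subsingleton.elim _ _
  obtain ⟨Ω, hΩ, hXΩ, hΩR⟩ := exists_equivariant_proj (conjRep A) hx h2
    (conjRep_sub_one_pow' A hd0 ha)
  have hvK : conjRep A x (A v) = A v := (conjRep_eq_iff A x _).mpr (hv.map A)
  set s := Ω (A v) with hs'
  have hsg : ∀ g : G, Commute (A g) s := by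
    let H : Subgroup G :=
      { carrier := {g | conjRep A g s = s}
        one_mem' := by simp
        mul_mem' := fun {a} {b} ha hb => by
          show conjRep A (a * b) s = s
          rw [map_mul, Module.End.mul_apply]
          exact (congrArg _ hb).trans ha
        inv_mem' := fun {a} ha => by
          show conjRep A a⁻¹ s = s
          conv_lhs => rw [← ha, ← Module.End.mul_apply, ← map_mul, inv_mul_cancel, map_one]
          rfl }
    have hle : Subgroup.normalClosure ({x} : Set G) ≤ H := by
      unfold Subgroup.normalClosure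
      rw [Subgroup.closure_le]
      intro y hy
      obtain ⟨w, hw, hy⟩ := Group.mem_conjugatesOfSet_iff.mp hy
      rw [Set.mem_singleton_iff] at hw
      rw [hw] at hy
      obtain ⟨c, rfl⟩ := isConj_iff.mp hy
      show conjRep A (c * x * c⁻¹) s = s
      rw [map_mul, map_mul, Module.End.mul_apply, Module.End.mul_apply, hs',
        ← Module.End.mul_apply (conjRep A c⁻¹) Ω, (hΩ c⁻¹).eq, Module.End.mul_apply,
        ← Module.End.mul_apply (conjRep A x) Ω, hXΩ, ← Module.End.mul_apply (conjRep A c) Ω,
        (hΩ c).eq, Module.End.mul_apply, ← Module.End.mul_apply (conjRep A c), ← map_mul,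
        mul_inv_cancel, map_one]
      rfl
    intro g
    exact (conjRep_eq_iff A g s).mp (hle (hgen ▸ Subgroup.mem_top g))
  set d := A v - s with hd
  obtain ⟨f', hf'⟩ := hΩR _ hvK
  have hdx : Commute (A x) d := (hv.map A).sub_right (hsg x)
  have hAx : A x⁻¹ * A x = 1 := by rw [← map_mul, inv_mul_cancel, map_one]
  have hdnil : IsNilpotent d := by
    refine isNilpotent_of_trace p hV d fun j hj => ?_
    obtain ⟨j, rfl⟩ := Nat.exists_eq_add_of_le' hj
    have hdf : d = f' - A x * f' * A x⁻¹ := by
      rw [← conjRep_apply, hd, ← neg_sub s, hs', hf', neg_sub]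
    have hc : Commute (A x) (d ^ j) := hdx.pow_right j
    rw [pow_succ', show d * d ^ j = f' * d ^ j - A x * f' * A x⁻¹ * d ^ j by
      rw [← sub_mul, ← hdf], map_sub, sub_eq_zero, mul_assoc (A x) f', mul_assoc (A x),
      LinearMap.trace_mul_comm k (A x), mul_assoc (f' * A x⁻¹), ← hc.eq, ← mul_assoc,
      mul_assoc f', hAx, mul_one]
  have hpow := pow_finrank_eq_zero hdnil
  haveI : CharP (Module.End k V) p :=
    charP_of_injective_algebraMap (R := k) (FaithfulSMul.algebraMap_injective k _) p
  have hp1 : finrank k V ≤ p ^ 1 := by rw [pow_one]; omega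
  have hvs : A v ^ p ^ 1 = s ^ p ^ 1 := by
    have hc : Commute s d := ((hsg v).symm.sub_right (Commute.refl s))
    rw [show A v = s + d by rw [hd, add_sub_cancel],
      add_pow_char_pow_of_commute p 1 hc, pow_eq_zero_of_le hp1 hpow, add_zero]
  obtain ⟨t, ht⟩ := exists_pow_eq_self_of_coprime (Nat.Coprime.pow_left 1
    ((Fact.out : p.Prime).coprime_iff_not_dvd.mpr hvp) : (p ^ 1).Coprime (orderOf v))
  rw [← ht, map_pow, map_pow, hvs]
  exact (((hsg g).symm).pow_left _).pow_left _

theorem two_mul_le_of_pow {d : Module.End k V} {a : ℕ} (hd : d ^ a = 0)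
    (h2 : 2 ≤ finrank k (LinearMap.range (d ^ (a - 1)))) : 2 * a ≤ finrank k V := by
  suffices h : ∀ j, j ≤ a → 2 * j ≤ finrank k (LinearMap.range (d ^ (a - j))) by
    have := h a le_rfl
    rw [Nat.sub_self, pow_zero] at this
    exact this.trans (Submodule.finrank_le _)
  intro j
  induction j with
  | zero => simp
  | succ j ih =>
    intro hj
    rcases Nat.eq_zero_or_pos j with rfl | hjpos
    · simpa using h2
    set W := LinearMap.range (d ^ (a - (j + 1))) with hW
    have hpow : d * d ^ (a - (j + 1)) = d ^ (a - j) := by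
      rw [← pow_succ']
      congr 1
      omega
    let f : W →ₗ[k] V := d ∘ₗ W.subtype
    have hrange : LinearMap.range f = LinearMap.range (d ^ (a - j)) := by
      rw [LinearMap.range_comp, Submodule.range_subtype, hW, ← LinearMap.range_comp, ← hpow]
      rfl
    let U := LinearMap.range (d ^ (a - 1))
    have hUW : U ≤ W := by
      rintro _ ⟨m, rfl⟩
      refine ⟨(d ^ j) m, ?_⟩
      rw [← Module.End.mul_apply, ← pow_add]
      congr 2
      omega
    have hker : (Submodule.comap W.subtype U) ≤ LinearMap.ker f := by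
      rintro ⟨_, hw⟩ ⟨m, hm⟩
      show d _ = 0
      rw [← hm, ← Module.End.mul_apply, ← pow_succ', show a - 1 + 1 = a by omega, hd]
      rfl
    have hcomap : finrank k (Submodule.comap W.subtype U) = finrank k U :=
      (Submodule.comapSubtypeEquivOfLe hUW).finrank_eq
    have hsum := LinearMap.finrank_range_add_finrank_ker f
    have h3 := Submodule.finrank_mono hker
    rw [hcomap] at h3
    rw [hrange] at hsum
    have h4 := ih (by omega)
    have h2' : 2 ≤ finrank k U := h2
    omega

theorem mem_range_pow_conj (A : G →* Module.End k V) {g : G} {c : ℕ}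
    (hc : g * x = x ^ c * g) (j : ℕ) {m : V} (hm : m ∈ LinearMap.range ((A x - 1) ^ j)) :
    A g m ∈ LinearMap.range ((A x - 1) ^ j) := by
  obtain ⟨w, rfl⟩ := hm
  set d := A x - 1 with hd
  set Q := ∑ i ∈ Finset.range c, (A x) ^ i
  have hQ : Q * d = (A x) ^ c - 1 := geom_sum_mul (A x) c
  have hQd : Commute d Q :=
    Commute.sum_right _ _ _ fun i _ => ((Commute.refl (A x)).sub_left (Commute.one_left _)).pow_right i
  have hgd : A g * d = d * (Q * A g) := by
    rw [← mul_assoc, hQd.eq, hQ, hd, mul_sub, mul_one, sub_mul, one_mul, ← map_mul, hc, map_mul,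
      map_pow]
  have hgdj : ∀ j, A g * d ^ j = d ^ j * (Q ^ j * A g) := by
    intro j
    induction j with
    | zero => simp
    | succ j ih =>
      rw [pow_succ' d, ← mul_assoc, hgd, mul_assoc, mul_assoc Q, ih, ← mul_assoc Q (d ^ j),
        ← (hQd.pow_left j).eq, pow_succ' Q]
      simp only [mul_assoc]
  exact ⟨(Q ^ j * A g) w, by rw [← Module.End.mul_apply, ← hgdj]; rfl⟩

/-- The case of a long block: the prime-to-`p` part of the centraliser acts by scalars. -/
theorem scalar_of_long (A : G →* Module.End k V) (hx : orderOf x = p)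
    (h2 : ¬ p ^ 2 ∣ Nat.card G) (hV : finrank k V < p)
    (hind : ∀ e : Module.End k V, (∀ g, Commute (A g) e) → e * e = e → e = 0 ∨ e = 1)
    {a : ℕ} (hd0 : (A x - 1) ^ a = 0) (hd1 : (A x - 1) ^ (a - 1) ≠ 0) (ha : p < 2 * a)
    {W : Subgroup G} (hW : IsVPart p x W) {v : G} (hv : v ∈ W) :
    ∃ r : k, A v = r • (1 : Module.End k V) := by
  classical
  set d := A x - 1 with hd
  set U := LinearMap.range (d ^ (a - 1)) with hU
  have hU1 : finrank k U ≤ 1 := by
    by_contra h
    have := two_mul_le_of_pow hd0 (show 2 ≤ finrank k U by omega)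
    omega
  obtain ⟨u, hu, hu0⟩ : ∃ u ∈ U, u ≠ 0 :=
    Submodule.exists_mem_ne_zero_of_ne_bot fun h => hd1 (LinearMap.range_eq_bot.mp h)
  have hline : ∀ m ∈ U, ∃ r : k, r • u = m := fun m hm => by
    obtain ⟨w, hw⟩ := finrank_le_one_iff.mp hU1
    obtain ⟨r1, hr1⟩ := hw ⟨u, hu⟩
    obtain ⟨r2, hr2⟩ := hw ⟨m, hm⟩
    have e1 : r1 • (w : V) = u := congrArg Subtype.val hr1
    have e2 : r2 • (w : V) = m := congrArg Subtype.val hr2
    have hr10 : r1 ≠ 0 := fun h => hu0 (by rw [← e1, h, zero_smul])
    exact ⟨r2 / r1, by rw [← e1, smul_smul, div_mul_cancel₀ _ hr10, e2]⟩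
  have hcW : ∀ w ∈ W, Commute x w := fun w hw =>
    (Subgroup.mem_centralizer_singleton_iff.mp ((hW w).mp hw).1).symm
  have hUW : ∀ w : W, ∃ r : k, r • u = A w u := fun w =>
    hline _ (mem_range_pow_conj A (c := 1) (by rw [pow_one]; exact (hcW _ w.2).eq.symm) _ hu)
  choose lam hlam using hUW
  have hlam_one : lam 1 = 1 := smul_left_injective k hu0 (by simp [hlam])
  have hlam_mul : ∀ a b : W, lam (a * b) = lam a * lam b := fun a b =>
    smul_left_injective k hu0 (by
      show lam (a * b) • u = (lam a * lam b) • u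
      rw [hlam, Subgroup.coe_mul, map_mul, Module.End.mul_apply, ← hlam b, map_smul, ← hlam a,
        smul_smul, mul_comm])
  have hlam0 : ∀ a : W, lam a ≠ 0 := fun a h => by
    have h' := hlam_mul a a⁻¹
    rw [mul_inv_cancel, hlam_one, h, zero_mul] at h'
    exact one_ne_zero h'
  haveI := Fintype.ofFinite W
  have hWcard : (Fintype.card W : k) ≠ 0 := by
    rw [Ne, CharP.cast_eq_zero_iff k p, ← Nat.card_eq_fintype_card]
    exact fun h => by
      obtain ⟨w, hw⟩ := exists_prime_orderOf_dvd_card' p h
      exact ((hW w).mp w.2).2 (by rw [Subgroup.orderOf_coe, hw])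
  set e : Module.End k V := (Fintype.card W : k)⁻¹ • ∑ w : W, (lam w)⁻¹ • A (w : G) with he
  have heW : ∀ w : W, A (w : G) * e = lam w • e := by
    intro w
    rw [he, mul_smul_comm, smul_comm (lam w)]
    congr 1
    rw [Finset.mul_sum, Finset.smul_sum]
    refine Fintype.sum_equiv (Equiv.mulLeft w) _ _ fun z => ?_
    rw [Equiv.coe_mulLeft, mul_smul_comm, ← map_mul, smul_smul, hlam_mul, mul_inv,
      ← mul_assoc, mul_inv_cancel₀ (hlam0 w), one_mul, Subgroup.coe_mul]
  have hee : e * e = e := by
    conv_lhs => arg 1; rw [he]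
    rw [smul_mul_assoc, Finset.sum_mul]
    simp only [smul_mul_assoc, heW, smul_smul, inv_mul_cancel₀ (hlam0 _), one_smul,
      Finset.sum_const, Finset.card_univ, ← Nat.cast_smul_eq_nsmul k, inv_mul_cancel₀ hWcard]
  have heu : e u = u := by
    simp only [he, LinearMap.smul_apply, LinearMap.sum_apply, ← hlam, smul_smul,
      inv_mul_cancel₀ (hlam0 _), one_smul, Finset.sum_const, Finset.card_univ,
      ← Nat.cast_smul_eq_nsmul k, inv_mul_cancel₀ hWcard]
  have heN : ∀ g ∈ Subgroup.normalizer (Subgroup.zpowers x : Set G), Commute (A g) e := by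
    intro g hg
    obtain ⟨c, hc⟩ := mem_powers_iff_mem_zpowers.mpr
      ((Subgroup.mem_normalizer_iff.mp hg x).mp (Subgroup.mem_zpowers x))
    have hc1 : g * x = x ^ c * g := by
      have hc' : x ^ c = g * x * g⁻¹ := hc
      rw [hc']; group
    have hgW : ∀ w ∈ W, g * w * g⁻¹ ∈ W := by
      intro w hw
      rw [hW]
      refine ⟨?_, by rw [← MulAut.conj_apply, MulEquiv.orderOf_eq]; exact ((hW w).mp hw).2⟩
      obtain ⟨c', hc'⟩ := mem_powers_iff_mem_zpowers.mpr
        ((Subgroup.mem_normalizer_iff''.mp hg x).mp (Subgroup.mem_zpowers x))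
      have hc2 : x ^ c' = g⁻¹ * x * g := hc'
      rw [Subgroup.mem_centralizer_singleton_iff]
      calc g * w * g⁻¹ * x = g * (w * x ^ c') * g⁻¹ := by rw [hc2]; group
        _ = g * (x ^ c' * w) * g⁻¹ := by rw [((hcW w hw).pow_left c').eq]
        _ = x * (g * w * g⁻¹) := by rw [hc2]; group
    have hgW' : ∀ w : W, lam ⟨g * w * g⁻¹, hgW w w.2⟩ = lam w := by
      intro w
      obtain ⟨r, hr⟩ := hline _ (mem_range_pow_conj A hc1 _ hu)
      have hr0 : r ≠ 0 := by
        rintro rfl
        rw [zero_smul] at hr
        apply hu0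
        have := congrArg (A g⁻¹) hr.symm
        rwa [map_zero, ← Module.End.mul_apply, ← map_mul, inv_mul_cancel, map_one,
          Module.End.one_apply] at this
      refine smul_left_injective k hu0 (smul_right_injective V hr0 ?_)
      show r • lam ⟨g * w * g⁻¹, hgW w w.2⟩ • u = r • lam w • u
      rw [hlam, ← map_smul, hr, ← Module.End.mul_apply, ← map_mul, inv_mul_cancel_right, map_mul,
        Module.End.mul_apply, ← hlam w, map_smul, ← hr, smul_comm]
    show A g * e = e * A g
    rw [he, mul_smul_comm, smul_mul_assoc, Finset.mul_sum, Finset.sum_mul]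
    congr 1
    let σ : W → W := fun w => ⟨g * w * g⁻¹, hgW w w.2⟩
    have hσ : Function.Injective σ := fun a b h => Subtype.ext (by
      have h' : g * (a : G) * g⁻¹ = g * b * g⁻¹ := congrArg Subtype.val h
      exact mul_left_cancel (mul_right_cancel h'))
    refine Fintype.sum_bijective σ (Finite.injective_iff_bijective.mp hσ) _ _ fun w => ?_
    rw [mul_smul_comm, smul_mul_assoc, hgW' w, ← map_mul, ← map_mul]
    simp only [σ, inv_mul_cancel_right]
  obtain ⟨Φ, hΦ, hΦK⟩ := exists_transfer A hx h2 hV e heN
  have hex : Commute (A x) e := heN x (Subgroup.le_normalizer (Subgroup.mem_zpowers x))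
  have hpowK : ∀ i : ℕ, ∀ f, A x f = f → (Φ ^ (i + 1)) f = e f := by
    intro i
    induction i with
    | zero => intro f hf; simpa using hΦK f hf
    | succ i ih =>
      intro f hf
      have hef : A x (e f) = e f := by rw [← Module.End.mul_apply, hex.eq, Module.End.mul_apply, hf]
      rw [pow_succ, Module.End.mul_apply, hΦK f hf, ih _ hef, ← Module.End.mul_apply, hee]
  -- the Fitting projection
  obtain ⟨N, hN⟩ := Filter.eventually_atTop.mp Φ.eventually_isCompl_ker_pow_range_pow
  have hc := hN (N + 1) (by omega)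
  let π : Module.End k V :=
    Submodule.projection (LinearMap.range (Φ ^ (N + 1))) (LinearMap.ker (Φ ^ (N + 1))) hc.symm
  have hπ1 : ∀ m ∈ LinearMap.range (Φ ^ (N + 1)), π m = m := fun m hm =>
    Submodule.projection_apply_left hc.symm ⟨m, hm⟩
  have hπ2 : ∀ m ∈ LinearMap.ker (Φ ^ (N + 1)), π m = 0 := fun m hm =>
    Submodule.projection_apply_right hc.symm ⟨m, hm⟩
  have hπidem : π * π = π := LinearMap.ext fun m => hπ1 _ (Submodule.projection_apply_mem hc.symm m)
  have hπg : ∀ g, Commute (A g) π := by
    intro g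
    have hg := (hΦ g).pow_right (N + 1)
    refine LinearMap.ext fun m => ?_
    obtain ⟨a1, ha1, b1, hb1, rfl⟩ := Submodule.mem_sup.mp
      (hc.sup_eq_top ▸ Submodule.mem_top : m ∈ _ ⊔ _)
    have ha' : A g a1 ∈ LinearMap.ker (Φ ^ (N + 1)) := by
      rw [LinearMap.mem_ker, ← Module.End.mul_apply, ← hg.eq, Module.End.mul_apply,
        LinearMap.mem_ker.mp ha1, map_zero]
    have hb' : A g b1 ∈ LinearMap.range (Φ ^ (N + 1)) := by
      obtain ⟨w, rfl⟩ := hb1
      exact ⟨A g w, by rw [← Module.End.mul_apply, ← hg.eq]; rfl⟩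
    simp only [Module.End.mul_apply, map_add, hπ1 _ hb1, hπ2 _ ha1, map_zero, hπ1 _ hb',
      hπ2 _ ha', zero_add]
  have hxu : A x u = u := by
    obtain ⟨w, hw⟩ := hu
    have h0 : d u = 0 := by
      rw [← hw, ← Module.End.mul_apply, ← pow_succ', show a - 1 + 1 = a by omega, hd0]
      rfl
    rwa [hd, LinearMap.sub_apply, Module.End.one_apply, sub_eq_zero] at h0
  rcases hind π hπg hπidem with h0 | h1
  · exfalso
    apply hu0
    have hmem : u ∈ LinearMap.range (Φ ^ (N + 1)) := ⟨u, by rw [hpowK N u hxu, heu]⟩
    rw [← hπ1 u hmem, h0]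
    rfl
  have hinj : ∀ m, (Φ ^ (N + 1)) m = 0 → m = 0 := fun m hm => by
    rw [← hπ2 m hm, h1]
    rfl
  -- the complement of the weight space has no fixed vectors
  have he1 : e = 1 := by
    refine LinearMap.ext fun m => ?_
    by_contra hne
    set z := m - e m with hz
    have hez : e z = 0 := by rw [hz, map_sub, ← Module.End.mul_apply, hee, sub_self]
    have hz0 : z ≠ 0 := fun h => hne (sub_eq_zero.mp h).symm
    have hnil := sub_pow_eq_zero A hx hV
    have hex' : ∀ j : ℕ, Commute e (d ^ j) := fun j =>
      ((hex.sub_left (Commute.one_left _)).pow_left j).symm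
    have hfind : ∃ j, (d ^ j) z = 0 := ⟨_, by rw [hnil]; rfl⟩
    obtain ⟨j, hj⟩ : ∃ j, Nat.find hfind = j + 1 := Nat.exists_eq_succ_of_ne_zero fun h => by
      have := Nat.find_spec hfind
      rw [h, pow_zero] at this
      exact hz0 this
    set f := (d ^ j) z with hf
    have hfne : f ≠ 0 := Nat.find_min hfind (by omega)
    have hfx : A x f = f := by
      have := Nat.find_spec hfind
      rw [hj, pow_succ', Module.End.mul_apply, LinearMap.sub_apply, Module.End.one_apply,
        sub_eq_zero] at this
      exact this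
    apply hfne
    apply hinj
    rw [hpowK N f hfx, hf, ← Module.End.mul_apply, (hex' j).eq, Module.End.mul_apply, hez, map_zero]
  refine ⟨lam ⟨v, hv⟩, ?_⟩
  have := heW ⟨v, hv⟩
  rwa [he1, mul_one] at this

end

/-- Elements of order prime to `p` centralising `x` act centrally in degree below `p`. -/
theorem commute_image_lt {V : Type w} [AddCommGroup V] [Module k V] [FiniteDimensional k V]
    (A : G →* Module.End k V) (hx : orderOf x = p) (h2 : ¬ p ^ 2 ∣ Nat.card G)
    (hgen : Subgroup.normalClosure ({x} : Set G) = ⊤) (hV : finrank k V < p)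
    {W : Subgroup G} (hW : IsVPart p x W) {v : G} (hv : v ∈ W) (g : G) :
    Commute (A v) (A g) := by
  induction hn : finrank k V using Nat.strong_induction_on generalizing V with
  | _ n ih =>
    by_cases hind : ∀ e : Module.End k V, (∀ g, Commute (A g) e) → e * e = e → e = 0 ∨ e = 1
    · classical
      have hvc := (hW v).mp hv
      have hnil : ∃ a, (A x - 1) ^ a = 0 := ⟨_, sub_pow_eq_zero A hx hV⟩
      by_cases ha : 2 * Nat.find hnil ≤ p
      · exact commute_of_short A hx h2 hgen hV (Nat.find_spec hnil) ha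
          (Subgroup.mem_centralizer_singleton_iff.mp hvc.1).symm hvc.2 g
      · obtain ⟨r, hr⟩ := scalar_of_long A hx h2 hV hind (Nat.find_spec hnil)
          (Nat.find_min hnil (by omega)) (by omega) hW hv
        rw [hr]
        exact (Commute.one_left _).smul_left r
    · push Not at hind
      obtain ⟨e, hec, hee, he0, he1⟩ := hind
      have key : ∀ f : Module.End k V, (∀ g, Commute (A g) f) → f * f = f → f ≠ 1 →
          ∀ m, A v (A g (f m)) = A g (A v (f m)) := by
        intro f hfc hff hf1 m
        have hlt : finrank k (LinearMap.range f) < n := by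
          rw [← hn]
          refine Submodule.finrank_lt fun h => hf1 ?_
          refine LinearMap.ext fun y => ?_
          obtain ⟨z, hz⟩ := (h ▸ Submodule.mem_top : y ∈ LinearMap.range f)
          rw [← hz, ← Module.End.mul_apply, hff]
          rfl
        have hstab : ∀ g, ∀ y ∈ LinearMap.range f, A g y ∈ LinearMap.range f := by
          rintro g y ⟨z, rfl⟩
          exact ⟨A g z, by rw [← Module.End.mul_apply, ← (hfc g).eq]; rfl⟩
        let B : G →* Module.End k (LinearMap.range f) :=
          { toFun := fun g => (A g).restrict (hstab g)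
            map_one' := LinearMap.ext fun m => Subtype.ext (by simp)
            map_mul' := fun g h => LinearMap.ext fun m => Subtype.ext (by simp) }
        exact congrArg Subtype.val
          (LinearMap.congr_fun (ih _ hlt B (by omega) rfl).eq ⟨f m, m, rfl⟩)
      refine LinearMap.ext fun m => ?_
      have h1 := key e hec hee he1 m
      have h2' := key (1 - e) (fun g => (Commute.one_right _).sub_right (hec g))
        (by rw [sub_mul, one_mul, mul_sub, mul_one, hee, sub_self, sub_zero])
        (fun h => he0 (sub_eq_self.mp h)) m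
      simp only [LinearMap.sub_apply, Module.End.one_apply, map_sub] at h2'
      show A v (A g m) = A g (A v m)
      rw [h1, sub_left_inj] at h2'
      exact h2'

end Cfsg.Agent.Lib.DegSubTwo.Modular
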