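import Cfsg.Agent.Lib.DegSubTwo.Structure
import Cfsg.Agent.S4503
import Cfsg.Agent.Lib.Clifford.Basic

/-!
# Reduction to the subgroup generated by the elements of order `p`
-/

set_option autoImplicit false
set_option linter.unusedSectionVars false
set_option linter.style.haveILetI false

namespace Cfsg.Agent.Lib.DegSubTwo.Reduction

open Cfsg.Agent.Lib.FirstPower Average Periods Cfsg.Agent.Lib.Characters.Basic
open Family (pow_eq_one_of_order)
open Basic Eigen Conj Alt Values
open Cfsg.Agent.Lib.DegSubTwo.Count Cfsg.Agent.Lib.DegSubTwo.Structure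

universe u

variable {p : ℕ} [Fact p.Prime] {G : Type u} [Group G] [Finite G] {x : G}
  {ζ : Cfsg.IrrCharacter G}

theorem exists_pow_mem_norm (s : Std p x ζ) {u : G} (hu : orderOf u = 2) (c : G) :
    ∃ i : ℕ, (x ^ i)⁻¹ * c ∈ Subgroup.normalizer (twoPart s u hu : Set G) := by
  classical
  set N := Subgroup.normalizer (twoPart s u hu : Set G) with hN
  have hxp := pow_eq_one_of_order s.hyp.ord
  haveI := Fintype.ofFinite (G ⧸ N)
  let f : Fin p → G ⧸ N := fun i => QuotientGroup.mk (x ^ (i : ℕ))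
  have hinj : Function.Injective f := by
    intro i j h
    have h1 : (x ^ (i : ℕ))⁻¹ * x ^ (j : ℕ) ∈ N := QuotientGroup.eq.1 h
    have h2 : ((x ^ (i : ℕ))⁻¹ * x ^ (j : ℕ)) ^ p = 1 := by
      rw [((Commute.pow_pow_self x i j).inv_left).mul_pow, inv_pow, ← pow_mul, ← pow_mul,
        mul_comm (i : ℕ), mul_comm (j : ℕ), pow_mul, pow_mul, hxp]
      simp
    rcases (Nat.dvd_prime (Fact.out : p.Prime)).1 (orderOf_dvd_of_pow_eq_one h2) with h3 | h3
    · have h4 := inv_mul_eq_one.1 (orderOf_eq_one_iff.1 h3)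
      exact Fin.ext (pow_injOn_Iio_orderOf (by rw [s.hyp.ord]; exact i.2)
        (by rw [s.hyp.ord]; exact j.2) h4)
    · exact absurd (dvd_of_eq h3.symm) (not_dvd_norm s hu h1)
  have hcard : Fintype.card (Fin p) = Fintype.card (G ⧸ N) := by
    rw [Fintype.card_fin, ← Nat.card_eq_fintype_card, ← Subgroup.index_eq_card, index_norm s hu]
  obtain ⟨i, hi⟩ := ((Fintype.bijective_iff_injective_and_card f).2 ⟨hinj, hcard⟩).2 (c : G ⧸ N)
  exact ⟨i, QuotientGroup.eq.1 hi⟩

/-- An automorphism fixing `x` is conjugation by a power of `x`. -/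
theorem exists_pow_of_fix (s : Std p x ζ) (hK : Subgroup.center G = ⊥) (α : G ≃* G)
    (hα : α x = x) : ∃ i : ℕ, ∀ g, α g = x ^ i * g * (x ^ i)⁻¹ := by
  classical
  obtain ⟨u, hu⟩ := exists_prime_orderOf_dvd_card' 2 (two_dvd_card s)
  set T := twoPart s u hu with hT
  set N := Subgroup.normalizer (T : Set G) with hN
  obtain ⟨c, hc⟩ := isConj_iff.1 ((order s).1 u (α u) hu (by rw [α.orderOf_eq, hu]))
  obtain ⟨i, hi⟩ := exists_pow_mem_norm s hu c
  let β : G → G := fun g => (x ^ i)⁻¹ * α g * x ^ i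
  have hβmul : ∀ g h, β (g * h) = β g * β h := fun g h => by simp only [β, map_mul]; group
  let γ : G → G := fun g => c⁻¹ * α g * c
  have hγmul : ∀ g h, γ (g * h) = γ g * γ h := fun g h => by simp only [γ, map_mul]; group
  have hγu : γ u = u := by simp only [γ, ← hc]; group
  have hγT : ∀ t ∈ T, γ t ∈ T := by
    intro t ht
    have h1 : γ 1 = 1 := by simp [γ]
    refine (mem_twoPart s hu).2 ⟨by rw [sq, ← hγmul, ← sq, ht.1, h1], ?_⟩
    show γ t * u = u * γ t
    nth_rewrite 1 [← hγu]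
    nth_rewrite 2 [← hγu]
    rw [← hγmul, ← hγmul, ht.2.eq]
  have hγN : ∀ n ∈ N, γ n ∈ N := by
    intro n hn
    have h := hγT _ ((mem_norm_iff s hu n).1 hn)
    rw [hγmul, hγmul, hγu] at h
    have hinv : γ n⁻¹ = (γ n)⁻¹ := by simp only [γ, map_inv]; group
    rw [hinv] at h
    exact (mem_norm_iff s hu _).2 h
  have hβN : ∀ n ∈ N, β n ∈ N := by
    intro n hn
    rw [show β n = ((x ^ i)⁻¹ * c) * γ n * ((x ^ i)⁻¹ * c)⁻¹ by simp only [β, γ]; group]
    exact mul_mem (mul_mem hi (hγN n hn)) (inv_mem hi)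
  have hβx : ∀ j : ℕ, β (x ^ j) = x ^ j := fun j => by
    simp only [β, map_pow, hα]
    rw [mul_assoc, (Commute.pow_pow_self x j i).eq, inv_mul_cancel_left]
  have hdiff : ∀ g, g⁻¹ * β g ∈ N := by
    intro g
    obtain ⟨j, hj⟩ := exists_pow_mem_norm s hu g
    have he : g = x ^ j * ((x ^ j)⁻¹ * g) := by rw [mul_inv_cancel_left]
    set n := (x ^ j)⁻¹ * g
    rw [he, hβmul, hβx, mul_inv_rev, mul_assoc, inv_mul_cancel_left]
    exact mul_mem (inv_mem hj) (hβN n hj)
  refine ⟨i, fun g => ?_⟩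
  have hcore : g⁻¹ * β g ∈ N.normalCore := by
    intro h
    have h1 := mul_mem (hdiff (g * h⁻¹)) (inv_mem (hdiff h⁻¹))
    rw [hβmul] at h1
    convert h1 using 1
    simp only [β, map_inv]
    group
  rw [hN, core_eq s hu, hK, Subgroup.mem_bot, inv_mul_eq_one] at hcore
  conv_rhs => rw [hcore]
  simp only [β]
  group

section Main

variable (hp : 5 < p) (hx : orderOf x = p) (h2 : ¬ p ^ 2 ∣ Nat.card G)
  (hdeg : Cfsg.charDegree (ζ : G → ℂ) = p - 2)
  (hfaith : ∀ g : G, (ζ : G → ℂ) g = (ζ : G → ℂ) 1 → g = 1)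
  (hnn : ∀ K : Subgroup G, K.Normal → Nat.card K ≠ p)

/-- The subgroup generated by the elements of order `p`. -/
abbrev core' (x : G) : Subgroup G := Subgroup.normalClosure ({x} : Set G)

include hx h2 in
theorem exists_conj_eq (H : Subgroup G) [H.Normal] (hxH : x ∈ H) (g : G) (hg : orderOf g = p) :
    g ∈ H ∧ ∃ h ∈ H, h * g * h⁻¹ ∈ Subgroup.zpowers x := by
  obtain ⟨Q, hQ⟩ := Consequences.exists_sylow hg h2
  obtain ⟨P, hP⟩ := Consequences.exists_sylow hx h2
  obtain ⟨a, ha⟩ := MulAction.exists_smul_eq G Q P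
  have hmem : a * g * a⁻¹ ∈ Subgroup.zpowers x := by
    rw [← hP, ← ha, Sylow.coe_subgroup_smul, Subgroup.mem_smul_pointwise_iff_exists]
    exact ⟨g, hQ ▸ Subgroup.mem_zpowers g, by simp [MulAut.smul_def, MulAut.conj_apply]⟩
  have hgH : g ∈ H := by
    have := (inferInstance : H.Normal).conj_mem _ ((Subgroup.zpowers_le.2 hxH) hmem) a⁻¹
    simpa [mul_assoc] using this
  refine ⟨hgH, ?_⟩
  have hyH : orderOf (⟨g, hgH⟩ : H) = p := by rw [← Subgroup.orderOf_coe, ← hg]
  have hxH' : orderOf (⟨x, hxH⟩ : H) = p := by rw [← Subgroup.orderOf_coe, ← hx]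
  have h2H : ¬ p ^ 2 ∣ Nat.card H := fun h => h2 (h.trans (Subgroup.card_subgroup_dvd_card H))
  obtain ⟨Q', hQ'⟩ := Consequences.exists_sylow hyH h2H
  obtain ⟨P', hP'⟩ := Consequences.exists_sylow hxH' h2H
  obtain ⟨b, hb⟩ := MulAction.exists_smul_eq H Q' P'
  refine ⟨b, b.2, ?_⟩
  have hmem' : b * ⟨g, hgH⟩ * b⁻¹ ∈ Subgroup.zpowers (⟨x, hxH⟩ : H) := by
    rw [← hP', ← hb, Sylow.coe_subgroup_smul, Subgroup.mem_smul_pointwise_iff_exists]
    exact ⟨⟨g, hgH⟩, hQ' ▸ Subgroup.mem_zpowers _, by simp [MulAut.smul_def, MulAut.conj_apply]⟩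
  obtain ⟨k, hk⟩ := hmem'
  exact ⟨k, by simpa using congrArg Subtype.val hk⟩

include hx h2 in
theorem gen_core :
    Subgroup.normalClosure ({⟨x, Subgroup.subset_normalClosure rfl⟩} : Set (core' x)) = ⊤ := by
  set H := core' x with hH
  have hxH : x ∈ H := Subgroup.subset_normalClosure rfl
  set y : H := ⟨x, hxH⟩ with hy
  set M := (Subgroup.normalClosure ({y} : Set H)) with hM
  rw [eq_top_iff]
  intro z _
  suffices hsuff : H ≤ M.map H.subtype by
    obtain ⟨z', hz', hzz⟩ := hsuff z.2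
    rwa [← Subtype.ext hzz]
  refine (Subgroup.closure_le _).mpr fun w hw => ?_
  obtain ⟨a, ha, hw'⟩ := Group.mem_conjugatesOfSet_iff.mp hw
  rw [Set.mem_singleton_iff] at ha
  rw [ha] at hw'
  obtain ⟨g, rfl⟩ := isConj_iff.mp hw'
  obtain ⟨hwH, h, hh, hk⟩ := exists_conj_eq hx h2 H hxH (g * x * g⁻¹)
    (by rw [← MulAut.conj_apply, MulEquiv.orderOf_eq, hx])
  obtain ⟨k, hk⟩ := hk
  refine ⟨⟨g * x * g⁻¹, hwH⟩, ?_, rfl⟩
  have hym : y ^ k ∈ M := zpow_mem (Subgroup.subset_normalClosure (Set.mem_singleton y)) k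
  have := (Subgroup.normalClosure_normal (s := ({y} : Set H))).conj_mem _ hym ⟨h, hh⟩⁻¹
  have he : (⟨g * x * g⁻¹, hwH⟩ : H) = ⟨h, hh⟩⁻¹ * y ^ k * ⟨h, hh⟩⁻¹⁻¹ := Subtype.ext (by
    simp only [Subgroup.coe_mul, Subgroup.coe_inv, SubgroupClass.coe_zpow, inv_inv, hy]
    simp only at hk
    rw [hk]
    group)
  show _ ∈ M
  rw [he]
  exact this

include hx h2 hnn in
theorem nn_core (K : Subgroup (core' x)) (hK : K.Normal) : Nat.card K ≠ p := by
  intro hcard
  haveI := hK
  have h2H : ¬ p ^ 2 ∣ Nat.card (core' x) := fun h => h2 (h.trans (Subgroup.card_subgroup_dvd_card (core' x)))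
  refine hnn (K.map (core' x).subtype) ⟨fun k hk g => ?_⟩ (by
    rw [Nat.card_congr (K.equivMapOfInjective (core' x).subtype (Subgroup.subtype_injective (core' x))).symm.toEquiv, hcard])
  obtain ⟨k, hk, rfl⟩ := hk
  have hgk : g * (k : G) * g⁻¹ ∈ (core' x) := (inferInstance : (core' x).Normal).conj_mem _ k.2 g
  refine ⟨⟨g * (k : G) * g⁻¹, hgk⟩, ?_, rfl⟩
  by_cases hk1 : k = 1
  · subst hk1
    have h1 : (⟨g * ((1 : (core' x)) : G) * g⁻¹, hgk⟩ : (core' x)) = 1 := Subtype.ext (by simp)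
    rw [h1]
    exact one_mem K
  · have hko : orderOf k = p := by
      have hd := Subgroup.orderOf_dvd_natCard K hk
      rw [hcard] at hd
      rcases (Nat.dvd_prime Fact.out).mp hd with h | h
      · exact absurd (orderOf_eq_one_iff.mp h) hk1
      · exact h
    have ho : orderOf (⟨g * (k : G) * g⁻¹, hgk⟩ : (core' x)) = p := by
      rw [← Subgroup.orderOf_coe, show ((⟨g * (k : G) * g⁻¹, hgk⟩ : (core' x)) : G) =
        MulAut.conj g (k : G) from rfl, MulEquiv.orderOf_eq, Subgroup.orderOf_coe, hko]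
    rw [← Cfsg.Agent.S4503.zpowers_of_dvd h2H ho hcard]
    exact Subgroup.mem_zpowers _

include hp hx h2 hdeg hfaith hnn in
theorem restrict_irr : Cfsg.IsIrrCharacter (core' x) (fun h => (ζ : G → ℂ) h) := by
  classical
  set H := core' x with hH
  haveI := Fintype.ofFinite G
  haveI := Fintype.ofFinite H
  obtain ⟨θ, hθ⟩ := Clifford.Basic.exists_constituent_restrict H ζ.2
  have hres : Cfsg.IsCharacter H (fun h : H => (ζ : G → ℂ) h) :=
    isCharacter_comp H.subtype (isCharacter_irr ζ)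
  obtain ⟨e, he⟩ := exists_classInner_nat hres (isCharacter_irr θ)
  set t := (Clifford.Basic.inertia H (θ : H → ℂ)).index with ht
  set d := Cfsg.charDegree (θ : H → ℂ) with hd
  have hd1 : (θ : H → ℂ) 1 = d := DegreeBounds.Basic.charDegree_irr θ
  have hdeg' : p - 2 = e * t * d := by
    have h := Clifford.Basic.clifford_degree H ζ.2 θ hθ
    rw [he, hd1, ← ht, DegreeBounds.Basic.charDegree_irr, hdeg] at h
    exact_mod_cast h
  by_cases het : e * t = 1
  · obtain ⟨he1, ht1⟩ := mul_eq_one.1 het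
    have hinv : ∀ g, Clifford.Basic.conjC H g (θ : H → ℂ) = (θ : H → ℂ) := fun g => by
      have := Subgroup.index_eq_one.1 ht1
      exact (Clifford.Basic.mem_inertia H).1 (this ▸ Subgroup.mem_top g)
    have h := Clifford.Basic.restrict_eq_smul H ζ.2 θ hθ hinv
    rw [he, he1, Nat.cast_one, one_smul] at h
    rw [h]
    exact θ.2
  exfalso
  have het2 : 2 ≤ e * t := by
    rcases Nat.eq_zero_or_pos (e * t) with h | h
    · rw [h, zero_mul] at hdeg'; omega
    · omega
  have hd2 : 2 * d ≤ p - 2 := hdeg'.symm ▸ Nat.mul_le_mul_right d het2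
  have hxH : x ∈ H := Subgroup.subset_normalClosure rfl
  set y : H := ⟨x, hxH⟩ with hy
  have hyo : orderOf y = p := by rw [← hx, ← Subgroup.orderOf_coe]
  have hgen : Subgroup.normalClosure ({y} : Set H) = ⊤ := gen_core hx h2
  have hcl := Clifford.Basic.clifford H ζ.2 θ hθ
  by_cases hd0 : d = 1
  · have h1 : (θ : H → ℂ) 1 = 1 := by rw [hd1, hd0, Nat.cast_one]
    let L := Characters.Linear.degOneHom (isCharacter_irr θ) h1
    have hcomm : ∀ a b : H, a * b = b * a := by
      intro a b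
      have hker : ∀ g : G, Clifford.Basic.conjC H g (θ : H → ℂ) (a * b * (b * a)⁻¹) =
          Clifford.Basic.conjC H g (θ : H → ℂ) 1 := by
        intro g
        let θ' : Cfsg.IrrCharacter H := ⟨_, Clifford.Basic.isIrrCharacter_conjC H g θ.2⟩
        have h1' : (θ' : H → ℂ) 1 = 1 := by
          show Clifford.Basic.conjC H g (θ : H → ℂ) 1 = 1
          rw [← h1]
          simp only [Clifford.Basic.conjC]
          exact congrArg (θ : H → ℂ) (Subtype.ext (by simp))
        let F := Characters.Linear.degOneHom (isCharacter_irr θ') h1'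
        have h3 : F (a * b * (b * a)⁻¹) = 1 := by
          rw [map_mul, map_inv, map_mul, map_mul, mul_comm (F a), mul_inv_cancel]
        show (θ' : H → ℂ) _ = (θ' : H → ℂ) _
        rw [h1', ← Characters.Linear.degOneHom_apply (isCharacter_irr θ') h1']
        exact (congrArg Units.val h3).trans Units.val_one
      have heq : (ζ : G → ℂ) ((a * b * (b * a)⁻¹ : H) : G) = (ζ : G → ℂ) 1 := by
        have e1 := congrFun hcl (a * b * (b * a)⁻¹)
        have e2 := congrFun hcl 1
        simp only [Pi.smul_apply, Finset.sum_apply, smul_eq_mul] at e1 e2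
        rw [OneMemClass.coe_one] at e2
        rw [e1, e2, Finset.sum_congr rfl fun g _ => hker g]
      exact mul_inv_eq_one.1 (Subtype.ext (hfaith _ heq))
    refine nn_core hx h2 hnn (Subgroup.zpowers y) ⟨fun k hk g => ?_⟩ (by rw [Nat.card_zpowers, hyo])
    rwa [hcomm g k, mul_inv_cancel_right]
  haveI := BlocksChars5.Basic.charKer_normal θ
  set K := BlocksChars5.Basic.charKer θ with hK
  by_cases hyK' : y ∈ K
  · have hall : ∀ h : H, (θ : H → ℂ) h = (θ : H → ℂ) 1 := fun h =>
      (BlocksChars5.Basic.mem_charKer θ h).1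
        ((hgen ▸ Subgroup.normalClosure_le_normal (Set.singleton_subset_iff.2 hyK'))
          (Subgroup.mem_top h))
    have hy1 : (ζ : G → ℂ) x = (ζ : G → ℂ) 1 := by
      have e1 := congrFun hcl y
      have e2 := congrFun hcl 1
      simp only [Pi.smul_apply, Finset.sum_apply, smul_eq_mul] at e1 e2
      rw [OneMemClass.coe_one] at e2
      rw [show x = ((y : H) : G) from rfl, e1, e2]
      simp only [Clifford.Basic.conjC, hall]
    have := hfaith x hy1
    rw [this, orderOf_one] at hx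
    omega
  obtain ⟨φ, hφ⟩ := BlocksChars5.Basic.exists_deflate θ K le_rfl
  have hφv : ∀ h : H, (φ : H ⧸ K → ℂ) h = (θ : H → ℂ) h := fun h => by
    rw [← hφ, BlocksChars5.Basic.inflate_apply]
  have hφdeg : Cfsg.charDegree (φ : H ⧸ K → ℂ) = d :=
    BlocksChars5.Basic.charDegree_congr (by rw [← hφv 1]; rfl)
  have hφf : ∀ g : H ⧸ K, (φ : H ⧸ K → ℂ) g = (φ : H ⧸ K → ℂ) 1 → g = 1 := by
    intro g
    obtain ⟨h, rfl⟩ := QuotientGroup.mk_surjective g
    intro he
    rw [hφv, ← QuotientGroup.mk_one, hφv] at he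
    exact (QuotientGroup.eq_one_iff h).mpr ((BlocksChars5.Basic.mem_charKer θ h).mpr he)
  have hyne : (QuotientGroup.mk y : H ⧸ K) ≠ 1 := fun h => hyK' ((QuotientGroup.eq_one_iff y).mp h)
  have hyK : orderOf (QuotientGroup.mk y : H ⧸ K) = p :=
    orderOf_eq_prime (by rw [← QuotientGroup.mk_pow, ← hyo, pow_orderOf_eq_one, QuotientGroup.mk_one])
      hyne
  have h2K : ¬ p ^ 2 ∣ Nat.card (H ⧸ K) := fun h =>
    h2 ((h.trans (Subgroup.card_quotient_dvd_card K)).trans (Subgroup.card_subgroup_dvd_card H))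
  have hgenK : Subgroup.normalClosure ({(QuotientGroup.mk y : H ⧸ K)} : Set (H ⧸ K)) = ⊤ := by
    rw [eq_top_iff]
    intro g _
    obtain ⟨h, rfl⟩ := QuotientGroup.mk_surjective g
    have : Subgroup.normalClosure ({y} : Set H) ≤
        (Subgroup.normalClosure ({(QuotientGroup.mk y : H ⧸ K)} : Set (H ⧸ K))).comap
          (QuotientGroup.mk' K) :=
      Subgroup.normalClosure_le_normal (Set.singleton_subset_iff.mpr
        (Subgroup.subset_normalClosure rfl))
    exact this (hgen ▸ Subgroup.mem_top h)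
  have hnnK : ∀ L : Subgroup (H ⧸ K), L.Normal → Nat.card L ≠ p := by
    intro L hL hcard
    haveI := hL
    have hLz := Cfsg.Agent.S4503.zpowers_of_dvd h2K hyK hcard
    have htop : L = ⊤ := top_le_iff.mp (hgenK ▸ Subgroup.normalClosure_le_normal
      (Set.singleton_subset_iff.mpr (hLz ▸ Subgroup.mem_zpowers _)))
    have hcyc : ∀ a b : H ⧸ K, a * b = b * a := by
      intro a b
      have ha : a ∈ Subgroup.zpowers (QuotientGroup.mk y : H ⧸ K) := by rw [hLz, htop]; trivial
      have hb : b ∈ Subgroup.zpowers (QuotientGroup.mk y : H ⧸ K) := by rw [hLz, htop]; trivial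
      obtain ⟨i, rfl⟩ := ha
      obtain ⟨j, rfl⟩ := hb
      exact ((Commute.refl _).zpow_zpow i j).eq
    have h1 := BlocksChars5.Basic.degree_eq_one_of_comm φ hcyc
    rw [DegreeBounds.Basic.charDegree_irr, hφdeg] at h1
    norm_cast at h1
  have := Cfsg.Agent.S4503.result p Fact.out (hyK ▸ orderOf_dvd_natCard _) h2K hnnK (φ : H ⧸ K → ℂ)
    (isCharacter_irr φ) hφf
  omega

include hp hx h2 hdeg hfaith hnn in
/-- The main theorem. -/
theorem main : ∃ (a : ℕ) (F : Type) (_ : Field F) (_ : Fintype F), p = 2 ^ a + 1 ∧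
    Fintype.card F = 2 ^ a ∧
      Nonempty (G ≃* Matrix.SpecialLinearGroup (Fin 2) F × Subgroup.center G) := by
  classical
  set H := core' x with hH
  haveI := Fintype.ofFinite G
  haveI := Fintype.ofFinite H
  have hirr := restrict_irr hp hx h2 hdeg hfaith hnn
  let ζH : Cfsg.IrrCharacter H := ⟨_, hirr⟩
  have hxH : x ∈ H := Subgroup.subset_normalClosure rfl
  have hyp : Hyp p (⟨x, hxH⟩ : H) ζH :=
    { lt := hp
      ord := by rw [← hx, ← Subgroup.orderOf_coe]
      sq := fun h => h2 (h.trans (Subgroup.card_subgroup_dvd_card H))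
      gen := gen_core hx h2
      nn := nn_core hx h2 hnn
      deg := by
        rw [← hdeg]
        exact BlocksChars5.Basic.charDegree_congr (show (ζ : G → ℂ) ((1 : H) : G) = _ by
          rw [OneMemClass.coe_one])
      faith := fun g hg => Subtype.ext (hfaith g (hg.trans (congrArg (ζ : G → ℂ) H.coe_one))) }
  obtain ⟨y, s⟩ := exists_std hyp
  have hK := center_eq_bot s
  obtain ⟨a, F, i1, i2, ha, hF, ⟨e⟩⟩ := structure_sl s
  have hcz : ∀ c : G, (∀ h : H, c * h = h * c) → c ∈ Subgroup.center G := by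
    intro c hc
    obtain ⟨d, ρ, hρ, hρχ⟩ := exists_rep ζ
    let ρH : Representation ℂ H (Fin d → ℂ) := ρ.comp H.subtype
    have hρHc : ρH.character = fun h : H => (ζ : G → ℂ) h := by
      funext h
      rw [← hρχ]
      rfl
    haveI : ρH.IsIrreducible := (isIrreducible_iff_classInner_self ρH).2 (by
      rw [hρHc]; exact classInner_self_irr ζH)
    obtain ⟨r, hr⟩ := Clifford.Rep.schur ρH (ρ c) (fun h => by
      show ρ c * ρ h = ρ h * ρ c
      rw [← map_mul, ← map_mul, hc h])
    rw [Subgroup.mem_center_iff]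
    intro g
    have h1 : ρ (g * c) = ρ (c * g) := by
      rw [map_mul, map_mul, hr]
      exact LinearMap.ext fun v => by simp
    have h3 : ρ (g * c * (c * g)⁻¹) = ρ 1 := by
      rw [map_mul, h1, ← map_mul, mul_inv_cancel]
    have h4 := hfaith (g * c * (c * g)⁻¹) (by
      rw [← hρχ, Representation.character, Representation.character, h3])
    exact mul_inv_eq_one.1 h4
  have hsplit : ∀ g : G, ∃ h : H, ∃ z ∈ Subgroup.center G, g = h * z := by
    intro g
    have hyo : orderOf (y : G) = p := by rw [Subgroup.orderOf_coe, s.hyp.ord]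
    obtain ⟨-, h, hh, hk⟩ := exists_conj_eq hyo h2 H y.2 (g * y * g⁻¹)
      (by rw [← MulAut.conj_apply, MulEquiv.orderOf_eq, hyo])
    have hym : (y : G) ^ p = 1 := by rw [← hyo, pow_orderOf_eq_one]
    obtain ⟨k, hk'⟩ := (mem_zpowers_iff_mem_range_orderOf.1 hk : _) |> Finset.mem_image.1
    obtain ⟨hkp, hk'⟩ := hk'
    set n := h * g with hn
    have hn' : n * (y : G) * n⁻¹ = (y : G) ^ k := by
      rw [hk', hn]; group
    let α : H ≃* H := MulAut.conjNormal n
    have hαy : α y = y ^ k := Subtype.ext (by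
      rw [MulAut.conjNormal_apply, SubmonoidClass.coe_pow, hn'])
    have hk0 : (k : ZMod p) ≠ 0 := by
      intro h0
      obtain ⟨c, rfl⟩ := (ZMod.natCast_eq_zero_iff k p).1 h0
      rw [pow_mul, hym, one_pow, mul_inv_eq_one, mul_eq_left] at hn'
      rw [hn', orderOf_one] at hyo
      omega
    set w := Units.mk0 (k : ZMod p) hk0 with hw
    have hwy : ∀ v : (ZMod p)ˣ,
        α (y ^ (v : ZMod p).val) = y ^ ((w * v : (ZMod p)ˣ) : ZMod p).val := by
      intro v
      rw [map_pow, hαy, ← pow_mul, Units.val_mul]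
      refine pow_eq_pow_iff_modEq.2 ?_
      rw [s.hyp.ord, ← ZMod.natCast_eq_natCast_iff]
      simp [hw]
    have hw2 : w = 1 ∨ w = -1 := by
      refine eq_or_eq_neg_of_et s fun v => ?_
      have hval : (ζH : H → ℂ) (α (y ^ (v : ZMod p).val)) = (ζH : H → ℂ) (y ^ (v : ZMod p).val) := by
        show (ζ : G → ℂ) _ = (ζ : G → ℂ) _
        rw [MulAut.conjNormal_apply]
        exact isClassFunction_irr ζ _ _
      rw [hwy, s.val, s.val, neg_inj] at hval
      rw [one_mul]
      exact hval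
    obtain ⟨c, hc⟩ : ∃ c : H, c * α y * c⁻¹ = y := by
      have h1 := hwy 1
      rw [mul_one, Units.val_one, pow_val_one (pow_eq_one_of_order s.hyp.ord)] at h1
      rcases hw2 with h3 | h3
      · exact ⟨1, by rw [h1, h3, Units.val_one,
          pow_val_one (pow_eq_one_of_order s.hyp.ord)]; simp⟩
      · obtain ⟨c, hc⟩ := isConj_iff.1 (isConj_inv s).symm
        refine ⟨c, ?_⟩
        convert hc using 3
        rw [h1, h3]
        symm
        apply inv_eq_of_mul_eq_one_right
        rw [← pow_succ']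
        apply orderOf_dvd_iff_pow_eq_one.1
        rw [s.hyp.ord, ← ZMod.natCast_eq_zero_iff]
        push_cast
        simp
    let β : H ≃* H := MulAut.conjNormal ((c : G) * n)
    have hβ : β y = y := by
      refine Subtype.ext ?_
      have h3 := congrArg Subtype.val hc
      simp only [α, Subgroup.coe_mul, Subgroup.coe_inv, MulAut.conjNormal_apply] at h3
      rw [MulAut.conjNormal_apply]
      refine Eq.trans ?_ h3
      group
    obtain ⟨i, hi⟩ := exists_pow_of_fix s hK β hβ
    set z := ((y : G) ^ i)⁻¹ * ((c : G) * n) with hz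
    have hzc : z ∈ Subgroup.center G := by
      refine hcz z fun m => ?_
      have h3 := congrArg Subtype.val (hi m)
      simp only [β, MulAut.conjNormal_apply, Subgroup.coe_mul, Subgroup.coe_inv,
        SubmonoidClass.coe_pow] at h3
      rw [mul_inv_eq_iff_eq_mul] at h3
      rw [hz, mul_assoc, h3]
      group
    refine ⟨⟨h, hh⟩⁻¹ * c⁻¹ * y ^ i, z, hzc, ?_⟩
    simp only [Subgroup.coe_mul, Subgroup.coe_inv, SubmonoidClass.coe_pow, hz, hn]
    group
  refine ⟨a, F, i1, i2, ha, hF, ⟨?_⟩⟩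
  let f : H × Subgroup.center G →* G :=
    { toFun := fun q => (q.1 : G) * q.2
      map_one' := by simp
      map_mul' := fun q r => by
        simp only [Prod.fst_mul, Prod.snd_mul, Subgroup.coe_mul]
        rw [mul_assoc, ← mul_assoc (r.1 : G) (q.2 : G), Subgroup.mem_center_iff.1 q.2.2 (r.1 : G)]
        group }
  have hf : Function.Bijective f := by
    refine ⟨(MonoidHom.ker_eq_bot_iff f).1 ((Subgroup.eq_bot_iff_forall _).2 fun q hq => ?_),
      fun g => ?_⟩
    · have hq' : (q.1 : G) * q.2 = 1 := hq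
      have h1 : q.1 ∈ Subgroup.center H := Subgroup.mem_center_iff.2 fun m => Subtype.ext (by
        simp only [Subgroup.coe_mul, eq_inv_of_mul_eq_one_left hq']
        exact Subgroup.mem_center_iff.1 (inv_mem q.2.2) _)
      rw [hK, Subgroup.mem_bot] at h1
      rw [h1, OneMemClass.coe_one, one_mul] at hq'
      exact Prod.ext h1 (Subtype.ext hq')
    · obtain ⟨h, z, hz, rfl⟩ := hsplit g
      exact ⟨(h, ⟨z, hz⟩), rfl⟩
  exact (MulEquiv.ofBijective f hf).symm.trans (e.prodCongr (MulEquiv.refl _))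

end Main

end Cfsg.Agent.Lib.DegSubTwo.Reduction
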