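import Cfsg.Agent.Lib.DegSubTwo.Count
import Cfsg.Agent.S4706
import Cfsg.Agent.Lib.Multiplier.Sylow
import Cfsg.Agent.Lib.Linear.Order

/-!
# The structure of the group

`G` permutes the `p` cosets of the normalizer of a Sylow `2`-subgroup with kernel the centre, so
`G / Z ≅ SL(2, 2^a)`; a transfer argument gives `Z = 1`.
-/

set_option autoImplicit false
set_option linter.unusedSectionVars false
set_option linter.style.haveILetI false

namespace Cfsg.Agent.Lib.DegSubTwo.Structure

open Cfsg.Agent.Lib.FirstPower Average Periods Cfsg.Agent.Lib.Characters.Basic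
open Family (pow_eq_one_of_order)
open Basic Eigen Conj Alt Values
open Cfsg.Agent.Lib.DegSubTwo.Count

attribute [local instance] BlocksChars5.Basic.irrFintype

universe u

variable {p : ℕ} [Fact p.Prime] {G : Type u} [Group G] [Finite G] {x : G}
  {ζ : Cfsg.IrrCharacter G}

theorem card_twoPart' (s : Std p x ζ) {u : G} (hu : orderOf u = 2) :
    Nat.card (twoPart s u hu) = p - 1 := by rw [card_twoPart s hu, (order s).2.1]

theorem conj_mem_twoPart (s : Std p x ζ) {u g t : G} (hu : orderOf u = 2)
    (hg : g * u * g⁻¹ ∈ twoPart s u hu) (ht : t ∈ twoPart s u hu) :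
    g * t * g⁻¹ ∈ twoPart s u hu := by
  have hv : orderOf (g * u * g⁻¹) = 2 := by rw [← MulAut.conj_apply, MulEquiv.orderOf_eq, hu]
  rw [twoPart_eq s hu hv hg, mem_twoPart]
  exact ⟨by rw [conj_pow, ht.1, mul_one, mul_inv_cancel], ht.2.map (MulAut.conj g).toMonoidHom⟩

theorem mem_norm_iff (s : Std p x ζ) {u : G} (hu : orderOf u = 2) (g : G) :
    g ∈ Subgroup.normalizer (twoPart s u hu : Set G) ↔ g⁻¹ * u * g ∈ twoPart s u hu := by
  set T := twoPart s u hu
  constructor
  · intro h
    exact (Subgroup.mem_normalizer_iff''.1 h u).1 (self_mem_twoPart s hu)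
  · intro h
    have h' : g⁻¹ * u * g⁻¹⁻¹ ∈ T := by rwa [inv_inv]
    rw [Subgroup.mem_normalizer_iff'']
    intro t
    constructor
    · intro ht
      have := conj_mem_twoPart s hu h' ht
      rwa [inv_inv] at this
    · intro ht
      let e : T → T := fun w => ⟨g⁻¹ * w * g⁻¹⁻¹, conj_mem_twoPart s hu h' w.2⟩
      have hinj : Function.Injective e := fun a b hab => Subtype.ext
        (mul_left_cancel (mul_right_cancel (congrArg Subtype.val hab : g⁻¹ * a * g⁻¹⁻¹ = _)))
      obtain ⟨w, hw⟩ := Finite.injective_iff_surjective.1 hinj ⟨g⁻¹ * t * g, ht⟩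
      have h1 : g⁻¹ * (w : G) * g⁻¹⁻¹ = g⁻¹ * t * g⁻¹⁻¹ := by
        rw [inv_inv]; simpa [e] using congrArg Subtype.val hw
      rw [← mul_left_cancel (mul_right_cancel h1)]
      exact w.2

/-- The normalizer of a Sylow `2`-subgroup has index `p`. -/
theorem card_norm (s : Std p x ζ) {u : G} (hu : orderOf u = 2) :
    Nat.card (Subgroup.normalizer (twoPart s u hu : Set G)) =
      (p - 2) * ((p - 1) * Nat.card (Subgroup.center G)) := by
  classical
  set T := twoPart s u hu
  have hiff := mem_norm_iff s hu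
  have hcount := SmallGroups.Counting.card_conj_fiber u (fun y => y ∈ T)
  rw [show Nat.card {g : G // g⁻¹ * u * g ∈ T} = Nat.card (Subgroup.normalizer (T : Set G)) from
    Nat.card_congr (Equiv.subtypeEquivRight fun g => (hiff g).symm), card_centralizer_inv s hu,
    card_twoPart' s hu] at hcount
  rw [hcount]
  congr 1
  have hset : ∀ y : G, (IsConj u y ∧ y ∈ T) ↔ (y ∈ T ∧ y ≠ 1) := by
    intro y
    constructor
    · rintro ⟨hc, hy⟩
      refine ⟨hy, fun h1 => ?_⟩
      rw [h1, isConj_one_left] at hc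
      rw [hc, orderOf_one] at hu
      omega
    · rintro ⟨hy, h1⟩
      exact ⟨(order s).1 u y hu (orderOf_eq_prime hy.1 h1), hy⟩
  rw [Nat.card_congr (Equiv.subtypeEquivRight hset)]
  haveI := Fintype.ofFinite T
  rw [Nat.card_congr (Equiv.subtypeSubtypeEquivSubtypeInter (fun y => y ∈ T) (fun y => y ≠ 1)).symm]
  rw [Nat.card_eq_fintype_card, Fintype.card_subtype_compl]
  have h1 : Fintype.card {x : {a : G // a ∈ T} // (x : G) = 1} = 1 := by
    rw [Fintype.card_eq_one_iff]
    exact ⟨⟨⟨1, one_mem T⟩, rfl⟩, fun w => Subtype.ext (Subtype.ext w.2)⟩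
  rw [h1, ← Nat.card_eq_fintype_card, card_twoPart' s hu]
  omega

theorem index_norm (s : Std p x ζ) {u : G} (hu : orderOf u = 2) :
    (Subgroup.normalizer (twoPart s u hu : Set G)).index = p := by
  set N := Subgroup.normalizer (twoPart s u hu : Set G) with hN
  have h := N.card_mul_index
  rw [card_norm s hu, (order s).2.2] at h
  have hpos : 0 < (p - 2) * ((p - 1) * Nat.card (Subgroup.center G)) := by
    have := s.hyp.lt
    have : 0 < Nat.card (Subgroup.center G) := Nat.card_pos
    have : 0 < p - 1 := by omega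
    have : 0 < p - 2 := by omega
    positivity
  refine Nat.eq_of_mul_eq_mul_left hpos (h.trans ?_)
  ring

theorem not_dvd_norm (s : Std p x ζ) {u g : G} (hu : orderOf u = 2)
    (hg : g ∈ Subgroup.normalizer (twoPart s u hu : Set G)) : ¬ p ∣ orderOf g := by
  intro h
  have h1 := h.trans (Subgroup.orderOf_dvd_natCard _ hg)
  rw [card_norm s hu] at h1
  have hp : p.Prime := Fact.out
  have h5 := s.hyp.lt
  rcases hp.dvd_mul.1 h1 with h2 | h2
  · have := Nat.le_of_dvd (by omega) h2
    omega
  rcases hp.dvd_mul.1 h2 with h3 | h3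
  · have := Nat.le_of_dvd (by omega) h3
    omega
  · exact not_dvd_center s.hyp h3

theorem involution_mem (s : Std p x ζ) {u v : G} (hu : orderOf u = 2) (hv : orderOf v = 2)
    (hvN : v ∈ Subgroup.normalizer (twoPart s u hu : Set G)) : v ∈ twoPart s u hu := by
  classical
  set T := twoPart s u hu
  set N := Subgroup.normalizer (T : Set G)
  haveI : (T.subgroupOf N).Normal := Subgroup.normal_in_normalizer
  have hTN : T ≤ N := Subgroup.le_normalizer
  have hidx : Odd (T.subgroupOf N).index := by
    have h := (T.subgroupOf N).card_mul_index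
    rw [Nat.card_congr (Subgroup.subgroupOfEquivOfLe hTN).toEquiv, card_norm s hu,
      card_twoPart' s hu] at h
    have h5 := s.hyp.lt
    have : (T.subgroupOf N).index = (p - 2) * Nat.card (Subgroup.center G) :=
      Nat.eq_of_mul_eq_mul_left (show 0 < p - 1 by omega) (h.trans (by ring))
    rw [this]
    refine Nat.odd_mul.2 ⟨?_, odd_center s⟩
    obtain ⟨m, hm⟩ := (Fact.out : p.Prime).odd_of_ne_two (by omega)
    exact ⟨m - 1, by omega⟩
  have h := Subgroup.pow_index_mem (T.subgroupOf N) ⟨v, hvN⟩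
  rw [Subgroup.mem_subgroupOf, SubmonoidClass.coe_pow,
    pow_odd_of_sq (hv ▸ pow_orderOf_eq_one v) hidx] at h
  exact h

/-- The core of the normalizer of a Sylow `2`-subgroup is the centre. -/
theorem core_eq (s : Std p x ζ) {u : G} (hu : orderOf u = 2) :
    (Subgroup.normalizer (twoPart s u hu : Set G)).normalCore = Subgroup.center G := by
  classical
  set T := twoPart s u hu with hT
  set N := Subgroup.normalizer (T : Set G) with hN
  set L := N.normalCore with hL
  set Z := Subgroup.center G with hZ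
  have hLN : L ≤ N := Subgroup.normalCore_le N
  have hZN : Z ≤ N := by
    intro z hz
    rw [hN, Subgroup.mem_normalizer_iff]
    intro t
    rw [← Subgroup.mem_center_iff.1 hz t, mul_inv_cancel_right]
  have hZL : Z ≤ L := Subgroup.normal_le_normalCore.2 hZN
  have h5 := s.hyp.lt
  have hnoinv : ∀ v ∈ L, orderOf v ≠ 2 := by
    intro v hvL hv
    have hsub : ∀ g, IsConj v g → g ∈ T ∧ g ≠ 1 := by
      intro g hg
      obtain ⟨c, rfl⟩ := isConj_iff.1 hg
      have ho : orderOf (c * v * c⁻¹) = 2 := by rw [← MulAut.conj_apply, MulEquiv.orderOf_eq, hv]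
      refine ⟨involution_mem s hu ho (hLN ((inferInstance : L.Normal).conj_mem v hvL c)),
        fun h1 => ?_⟩
      rw [h1, orderOf_one] at ho
      omega
    have hle : Nat.card {g : G // IsConj v g} ≤ Nat.card T :=
      Nat.card_le_card_of_injective (fun g => ⟨g.1, (hsub g.1 g.2).1⟩) fun a b h =>
        Subtype.ext (congrArg (fun w : T => (w : G)) h)
    have h := SmallGroups.Counting.card_isConj_mul v
    rw [card_centralizer_inv s hv, card_twoPart' s hv, (order s).2.2] at h
    rw [card_twoPart' s hu] at hle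
    have hK : 0 < Nat.card Z := Nat.card_pos
    have h1 : Nat.card {g : G // IsConj v g} = p * (p - 2) := by
      refine Nat.eq_of_mul_eq_mul_right (show 0 < (p - 1) * Nat.card Z by
        have : 0 < p - 1 := by omega
        positivity) (h.trans ?_)
      ring
    have h2 : p * 1 ≤ p * (p - 2) := Nat.mul_le_mul_left p (by omega)
    omega
  have hodd : ∀ l ∈ L, Odd (orderOf l) := by
    intro l hl
    rw [← Nat.not_even_iff_odd, even_iff_two_dvd]
    rintro ⟨c, hc⟩
    have hc0 : c ≠ 0 := by
      rintro rfl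
      exact (orderOf_pos l).ne' (by rw [hc, mul_zero])
    refine hnoinv (l ^ c) (pow_mem hl c) ?_
    rw [orderOf_pow_of_dvd hc0 (Dvd.intro_left 2 hc.symm), hc,
      Nat.mul_div_cancel _ (Nat.pos_of_ne_zero hc0)]
  have hTL : ∀ t ∈ T, t ≠ 1 → t ∉ L := fun t ht h1 h =>
    hnoinv t h (orderOf_eq_prime ht.1 h1)
  have hstep : ∀ t ∈ T, t ≠ 1 → ∀ l ∈ L,
      (QuotientGroup.mk' Z) t * (QuotientGroup.mk' Z) l * (QuotientGroup.mk' Z) t =
        ((QuotientGroup.mk' Z) l)⁻¹ := by
    intro t ht h1 l hl
    have hgN : t * l ∈ N := mul_mem (Subgroup.le_normalizer ht) (hLN hl)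
    rcases regular_cases s (not_dvd_norm s hu hgN) with h | ⟨v, hv, z, hz, he⟩ | ⟨h, -⟩
    · exact absurd ((Subgroup.mul_mem_cancel_right L hl).1 (hZL h)) (hTL t ht h1)
    · have hsq : (t * l) ^ 2 ∈ Z := by
        rw [he, (show Commute v z from Subgroup.mem_center_iff.1 hz v).mul_pow,
          (show v ^ 2 = 1 by rw [← hv, pow_orderOf_eq_one]), one_mul]
        exact pow_mem hz 2
      have := (QuotientGroup.eq_one_iff _).2 hsq
      rw [← QuotientGroup.mk'_apply, map_pow, map_mul, sq, ← mul_assoc] at this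
      rw [eq_inv_of_mul_eq_one_left this]
    · exfalso
      apply hTL t ht h1
      have h2 : (QuotientGroup.mk' L) t ^ orderOf (t * l) = 1 := by
        rw [show (QuotientGroup.mk' L) t = (QuotientGroup.mk' L) (t * l) by
          rw [map_mul, QuotientGroup.mk'_apply L l, (QuotientGroup.eq_one_iff l).2 hl, mul_one],
          ← map_pow, pow_orderOf_eq_one, map_one]
      rw [← map_pow, pow_odd_of_sq ht.1 h] at h2
      exact (QuotientGroup.eq_one_iff t).1 h2
  refine le_antisymm (fun l hl => ?_) hZL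
  obtain ⟨t₂, ht₂, h2ne, h2u⟩ : ∃ t₂ ∈ T, t₂ ≠ 1 ∧ t₂ ≠ u := by
    by_contra hcon
    push Not at hcon
    have : (T : Set G) ⊆ {1, u} := fun t ht => (em (t = 1)).elim Or.inl fun h => Or.inr (hcon t ht h)
    have h := Set.ncard_le_ncard this
    rw [← Nat.card_coe_set_eq, SetLike.coe_sort_coe, card_twoPart' s hu] at h
    have := Set.ncard_insert_le (1 : G) {u}
    rw [Set.ncard_singleton] at this
    omega
  have hu1 : u ≠ 1 := fun h => by rw [h, orderOf_one] at hu; omega
  have h3 : u * t₂ ≠ 1 := fun h => h2u (by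
    rw [eq_inv_of_mul_eq_one_right h]
    exact inv_eq_of_mul_eq_one_right (by rw [← sq, ← hu, pow_orderOf_eq_one]))
  set π := QuotientGroup.mk' Z
  have huT := self_mem_twoPart s hu
  have e2 := hstep t₂ ht₂ h2ne l hl
  have e1 := hstep u huT hu1 l hl
  have e3 := hstep (u * t₂) (mul_mem huT ht₂) h3 l hl
  have hcomm : π (u * t₂) = π t₂ * π u := by
    rw [← map_mul, (commute_twoPart s hu huT ht₂).eq]
  have hsqu : π u * π u = 1 := by
    rw [← map_mul, ← sq, ← hu, pow_orderOf_eq_one, map_one]
  have hl2 : π l * π l = 1 := by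
    have e4 : π u * (π t₂ * π l * π t₂) * π u = (π l)⁻¹ := by
      have : π (u * t₂) * π l * π (u * t₂) = π u * (π t₂ * π l * π t₂) * π u := by
        nth_rewrite 2 [hcomm]
        rw [map_mul]
        simp only [mul_assoc]
      rw [← this]
      exact e3
    rw [e2, ← inv_inj, inv_inv, mul_inv_rev, mul_inv_rev, inv_inv,
      inv_eq_of_mul_eq_one_right hsqu, ← mul_assoc, e1] at e4
    nth_rewrite 1 [← e4]
    exact inv_mul_cancel _
  rw [← map_mul] at hl2
  have hl2' : l * l ∈ Z := (QuotientGroup.eq_one_iff _).1 hl2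
  obtain ⟨m, hm⟩ := hodd l hl
  have : l = (l * l) ^ (m + 1) := by
    rw [← sq, ← pow_mul, show 2 * (m + 1) = orderOf l + 1 by omega, pow_succ, pow_orderOf_eq_one,
      one_mul]
  rw [this]
  exact pow_mem hl2' _

theorem autE_card (s : Std p x ζ) :
    Nat.card (autE (pow_eq_one_of_order s.hyp.ord)) = 2 := by
  have hxp := pow_eq_one_of_order s.hyp.ord
  have hmem : ∀ w, w ∈ autE hxp ↔ w = 1 ∨ w = -1 := by
    intro w
    constructor
    · intro h
      have h' : IsConj (x ^ ((1 : (ZMod p)ˣ) : ZMod p).val) (x ^ (w : ZMod p).val) := by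
        rw [Units.val_one, pow_val_one hxp]; exact h
      rcases eq_or_eq_neg_of_isConj s h' with h1 | h1
      · exact Or.inl h1.symm
      · exact Or.inr (by rw [h1, neg_neg])
    · rintro (rfl | rfl)
      · exact one_mem _
      · show IsConj x _
        convert isConj_inv s using 1
        have h1 := pow_val_mul hxp ((-1 : (ZMod p)ˣ) : ZMod p) 1
        symm
        apply inv_eq_of_mul_eq_one_right
        rw [← pow_succ']
        apply orderOf_dvd_iff_pow_eq_one.1
        rw [s.hyp.ord, ← ZMod.natCast_eq_zero_iff]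
        push_cast
        simp
  classical
  haveI := Fintype.ofFinite (autE hxp)
  rw [Nat.card_eq_fintype_card, ← Finset.card_univ]
  rw [show (Finset.univ : Finset (autE hxp)) =
    {⟨1, one_mem _⟩, ⟨-1, (hmem _).2 (Or.inr rfl)⟩} from ?_, Finset.card_pair]
  · exact fun h => ne_neg s 1 (congrArg Subtype.val h)
  · ext w
    simp only [Finset.mem_univ, Finset.mem_insert, Finset.mem_singleton, true_iff]
    exact ((hmem w).1 w.2).imp Subtype.ext Subtype.ext

theorem card_normalizer_x (s : Std p x ζ) :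
    Nat.card (Subgroup.normalizer (Subgroup.zpowers x : Set G)) =
      2 * (p * Nat.card (Subgroup.center G)) := by
  rw [Consequences.card_normalizer s.hyp.ord, autE_card s, card_centralizer_x s.hyp]

/-- The map onto `SL(2, 2^a)` with kernel the centre. -/
theorem exists_hom (s : Std p x ζ) :
    ∃ (a : ℕ) (F : Type) (_ : Field F) (_ : Fintype F), p = 2 ^ a + 1 ∧ Fintype.card F = 2 ^ a ∧
      ∃ f : G →* Matrix.SpecialLinearGroup (Fin 2) F,
        Function.Surjective f ∧ f.ker = Subgroup.center G := by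
  classical
  obtain ⟨u, hu⟩ := exists_prime_orderOf_dvd_card' 2 (two_dvd_card s)
  set N := Subgroup.normalizer (twoPart s u hu : Set G) with hN
  haveI := Fintype.ofFinite (G ⧸ N)
  have hα : Fintype.card (G ⧸ N) = p := by
    rw [← Nat.card_eq_fintype_card, ← Subgroup.index_eq_card, index_norm s hu]
  set f := MulAction.toPermHom G (G ⧸ N) with hf
  have hker : f.ker = Subgroup.center G := by
    rw [hf, ← Subgroup.normalCore_eq_ker, core_eq s hu]
  set R := f.range with hR
  set r := f.rangeRestrict with hr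
  have hsurj : Function.Surjective r := f.rangeRestrict_surjective
  have hrker : r.ker = Subgroup.center G := by rw [hr, MonoidHom.ker_rangeRestrict, hker]
  have hcard : Nat.card R = p * (p - 1) * (p - 2) := by
    have h := (f.ker).card_mul_index
    rw [Subgroup.index_ker, hker, (order s).2.2] at h
    exact Nat.eq_of_mul_eq_mul_left Nat.card_pos (h.trans (mul_comm _ _))
  have hxp := pow_eq_one_of_order s.hyp.ord
  have hp : p.Prime := Fact.out
  have hxne : r x ≠ 1 := by
    intro h
    have hxz : x ∈ Subgroup.center G := hrker ▸ h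
    exact not_dvd_center s.hyp (s.hyp.ord ▸ Subgroup.orderOf_dvd_natCard _ hxz)
  have hy : orderOf (r x) = p := orderOf_eq_prime (by rw [← map_pow, hxp, map_one]) hxne
  have h2 : ¬ p ^ 2 ∣ Nat.card R := by
    rw [hcard, sq, mul_assoc]
    intro h
    have h5 := s.hyp.lt
    rcases hp.dvd_mul.1 ((Nat.mul_dvd_mul_iff_left hp.pos).1 h) with h' | h' <;>
    · have := Nat.le_of_dvd (by omega) h'
      omega
  obtain ⟨P, hP⟩ := Consequences.exists_sylow hy h2
  have hcomap : (Subgroup.normalizer ((P : Subgroup R) : Set R)).comap r =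
      Subgroup.normalizer (Subgroup.zpowers x : Set G) := by
    ext g
    rw [Subgroup.mem_comap, hP]
    constructor
    · intro hg
      have hmem : r (g * x * g⁻¹) ∈ Subgroup.zpowers (r x) := by
        rw [map_mul, map_mul, map_inv]
        exact (Subgroup.mem_normalizer_iff.1 hg _).1 (Subgroup.mem_zpowers _)
      obtain ⟨k, hk⟩ := hmem
      simp only [← map_zpow] at hk
      have hz : (x ^ k)⁻¹ * (g * x * g⁻¹) ∈ Subgroup.center G := by
        rw [← hrker, MonoidHom.mem_ker, map_mul, map_inv, hk, inv_mul_cancel]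
      set z := (x ^ k)⁻¹ * (g * x * g⁻¹) with hzdef
      have hgx : g * x * g⁻¹ = x ^ k * z := by rw [hzdef, mul_inv_cancel_left]
      have hzp : z ^ p = 1 := by
        have h1 : (g * x * g⁻¹) ^ p = 1 := by rw [conj_pow, hxp, mul_one, mul_inv_cancel]
        rwa [hgx, (show Commute (x ^ k) z from Subgroup.mem_center_iff.1 hz _).mul_pow,
          ← zpow_natCast (x ^ k), ← zpow_mul, mul_comm, zpow_mul, zpow_natCast, hxp, one_zpow,
          one_mul] at h1
      have hz1 : z = 1 := by
        rcases (Nat.dvd_prime hp).1 (orderOf_dvd_of_pow_eq_one hzp) with h3 | h3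
        · exact orderOf_eq_one_iff.1 h3
        · exact absurd (h3 ▸ Subgroup.orderOf_dvd_natCard _ hz) (not_dvd_center s.hyp)
      rw [hz1, mul_one] at hgx
      have hle : (Subgroup.zpowers x).map (MulAut.conj g).toMonoidHom = Subgroup.zpowers x := by
        refine Subgroup.eq_of_le_of_card_ge ?_ ?_
        · rw [MonoidHom.map_zpowers, Subgroup.zpowers_le]
          exact ⟨k, hgx.symm⟩
        · rw [Subgroup.card_map_of_injective (MulAut.conj g).injective]
      rw [Subgroup.mem_normalizer_iff]
      intro w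
      conv_lhs => rw [← Subgroup.mem_map_iff_mem
        (f := (MulAut.conj g).toMonoidHom) (MulAut.conj g).injective]
      erw [hle]
      rfl
    · intro hg
      have := Subgroup.le_normalizer_map r (Subgroup.mem_map_of_mem r hg)
      rwa [MonoidHom.map_zpowers] at this
  have hN2 : Nat.card (Subgroup.normalizer ((P : Subgroup R) : Set R)) = 2 * p := by
    have h1 := Subgroup.index_comap_of_surjective (Subgroup.normalizer ((P : Subgroup R) : Set R))
      hsurj
    rw [hcomap] at h1
    have h3 := (Subgroup.normalizer (Subgroup.zpowers x : Set G)).card_mul_index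
    have h4 := (Subgroup.normalizer ((P : Subgroup R) : Set R)).card_mul_index
    rw [card_normalizer_x s, h1, (order s).2.2] at h3
    rw [hcard] at h4
    have hidx : 0 < (Subgroup.normalizer ((P : Subgroup R) : Set R)).index :=
      Nat.pos_of_ne_zero Subgroup.index_ne_zero_of_finite
    refine Nat.eq_of_mul_eq_mul_right hidx (h4.trans ?_)
    refine Nat.eq_of_mul_eq_mul_right (show 0 < Nat.card (Subgroup.center G) from Nat.card_pos) ?_
    rw [← h3]
    ring
  have h5 := s.hyp.lt
  rcases Cfsg.Agent.S4706.result (by omega) hα R P hN2 with h | ⟨a, F, i1, i2, ha, hF, ⟨e⟩⟩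
  · exfalso
    haveI := h
    rw [Subgroup.normalizer_eq_top, Subgroup.card_top, hcard, mul_assoc, mul_comm 2] at hN2
    have h6 := Nat.eq_of_mul_eq_mul_left hp.pos hN2
    have : (p - 1) * 1 ≤ (p - 1) * (p - 2) := Nat.mul_le_mul_left _ (by omega)
    omega
  · refine ⟨a, F, i1, i2, ha, hF, e.toMonoidHom.comp r, e.surjective.comp hsurj, ?_⟩
    rw [← hrker]
    ext g
    simp [MonoidHom.mem_ker]

/-- The diagonal torus. -/
def diagSL (F : Type) [Field F] : Fˣ →* Matrix.SpecialLinearGroup (Fin 2) F where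
  toFun w := ⟨!![(w : F), 0; 0, ((w⁻¹ : Fˣ) : F)], by simp [Matrix.det_fin_two]⟩
  map_one' := by ext i j; fin_cases i <;> fin_cases j <;> simp
  map_mul' v w := Subtype.ext <| by
    show _ = !![(v : F), 0; 0, ((v⁻¹ : Fˣ) : F)] * !![(w : F), 0; 0, ((w⁻¹ : Fˣ) : F)]
    ext i j
    fin_cases i <;> fin_cases j <;> simp [Matrix.mul_apply, Fin.sum_univ_two, mul_comm]

theorem diagSL_injective (F : Type) [Field F] : Function.Injective (diagSL F) := fun v w h =>
  Units.ext (congrArg (fun m : Matrix.SpecialLinearGroup (Fin 2) F => m.1 0 0) h)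

/-- The centre is trivial. -/
theorem center_eq_bot (s : Std p x ζ) : Subgroup.center G = ⊥ := by
  classical
  obtain ⟨a, F, i1, i2, ha, hF, f, hsurj, hker⟩ := exists_hom s
  rw [Subgroup.eq_bot_iff_forall]
  intro z hz
  set C := (diagSL F).range with hC
  set H := C.comap f with hH
  obtain ⟨w, hw⟩ := IsCyclic.exists_generator (α := Fˣ)
  obtain ⟨g, hg⟩ := hsurj (diagSL F w)
  have hdec : ∀ y ∈ H, ∃ (i : ℤ), ∃ c ∈ Subgroup.center G, y = g ^ i * c := by
    intro y hy
    obtain ⟨v, hv⟩ := (hy : f y ∈ C)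
    obtain ⟨i, hi⟩ := hw v
    simp only at hi
    refine ⟨i, (g ^ i)⁻¹ * y, ?_, by rw [mul_inv_cancel_left]⟩
    rw [← hker, MonoidHom.mem_ker, map_mul, map_inv, map_zpow, hg, ← map_zpow, hi, hv,
      inv_mul_cancel]
  have hHab : ⁅H, H⁆ = ⊥ := by
    rw [Subgroup.commutator_eq_bot_iff_le_centralizer]
    intro b hb
    rw [Subgroup.mem_centralizer_iff]
    intro c hc
    obtain ⟨i, z₁, hz₁, rfl⟩ := hdec b hb
    obtain ⟨j, z₂, hz₂, rfl⟩ := hdec c hc
    have h1 : Commute (g ^ j * z₂) (g ^ i) :=
      (((Commute.refl g).zpow_zpow j i).mul_left (Subgroup.mem_center_iff.1 hz₂ (g ^ i)).symm)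
    exact (h1.mul_right (Subgroup.mem_center_iff.1 hz₁ (g ^ j * z₂))).eq
  have hzH : z ∈ H := by
    show f z ∈ C
    rw [MonoidHom.mem_ker.1 (hker.symm ▸ hz : z ∈ f.ker)]
    exact one_mem C
  have h1 := Multiplier.pow_index_mem_commutator H z hz
    (commutator_eq_top s ▸ Subgroup.mem_top z) hzH
  rw [hHab, Subgroup.mem_bot, hH, Subgroup.index_comap_of_surjective C hsurj] at h1
  have hidx : C.index = p * (p - 1) := by
    have h := C.card_mul_index
    rw [Linear.card_SL_two, hC, ← Nat.card_congr (MonoidHom.ofInjective (diagSL_injective F)).toEquiv,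
      Nat.card_units, Nat.card_eq_fintype_card, hF] at h
    have h5 := s.hyp.lt
    refine Nat.eq_of_mul_eq_mul_left (show 0 < 2 ^ a - 1 by omega) (h.trans ?_)
    rw [show p - 1 = 2 ^ a by omega, show p = 2 ^ a + 1 from ha]
    ring
  rw [hidx] at h1
  have h2 := center_pow_degree s hz
  have hcop : (p * (p - 1)).Coprime (p - 2) := by
    have h5 := s.hyp.lt
    refine Nat.Coprime.mul_left ?_ ?_
    · exact (Fact.out : p.Prime).coprime_iff_not_dvd.2 fun h => by
        have := Nat.le_of_dvd (by omega) h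
        omega
    · rw [show p - 1 = p - 2 + 1 by omega, Nat.coprime_self_add_left]
      exact Nat.coprime_one_left _
  have := pow_gcd_eq_one.2 ⟨h1, h2⟩
  rwa [hcop.gcd_eq_one, pow_one] at this

/-- The structure theorem. -/
theorem structure_sl (s : Std p x ζ) :
    ∃ (a : ℕ) (F : Type) (_ : Field F) (_ : Fintype F), p = 2 ^ a + 1 ∧ Fintype.card F = 2 ^ a ∧
      Nonempty (G ≃* Matrix.SpecialLinearGroup (Fin 2) F) := by
  obtain ⟨a, F, i1, i2, ha, hF, f, hsurj, hker⟩ := exists_hom s
  exact ⟨a, F, i1, i2, ha, hF, ⟨MulEquiv.ofBijective f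
    ⟨(MonoidHom.ker_eq_bot_iff f).1 (hker.trans (center_eq_bot s)), hsurj⟩⟩⟩

end Cfsg.Agent.Lib.DegSubTwo.Structure
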