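import Cfsg.Agent.Lib.DegSubTwo.Alt
import Cfsg.Agent.Lib.PrimeSharp.TwoP.Congr

/-!
# The values of `ζ` on the `p`-regular elements

`ζ` is `-1` on involutions, there is no element of order `4`, and `ζ` vanishes off the centre and
the involutions times the centre.
-/

set_option autoImplicit false
set_option linter.unusedSectionVars false
set_option linter.style.haveILetI false

namespace Cfsg.Agent.Lib.DegSubTwo.Values

open scoped ComplexConjugate
open Cfsg.Agent.Lib.FirstPower Average Periods Cfsg.Agent.Lib.Characters.Basic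
open CharOrbit (IsVPart)
open Family (pow_eq_one_of_order)
open Basic Eigen Conj Alt

attribute [local instance] BlocksChars5.Basic.irrFintype

universe u

variable {p : ℕ} [Fact p.Prime] {G : Type u} [Group G] [Finite G] {x : G}
  {ζ : Cfsg.IrrCharacter G}

theorem two_dvd_card (s : Std p x ζ) : 2 ∣ Nat.card G := by
  obtain ⟨c, hc⟩ := isConj_iff.1 (isConj_inv s)
  by_contra hodd
  have h2 : Commute (c ^ 2) x := by
    show c ^ 2 * x = x * c ^ 2
    rw [← mul_inv_eq_iff_eq_mul, pow_two, mul_inv_rev,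
      show c * c * x * (c⁻¹ * c⁻¹) = c * (c * x * c⁻¹) * c⁻¹ by group, hc, ← conj_inv, hc, inv_inv]
  obtain ⟨m, hm⟩ := Nat.odd_iff.2 (by omega : Nat.card G % 2 = 1)
  have h1 : c = (c ^ 2) ^ (m + 1) := by
    rw [← pow_mul, show 2 * (m + 1) = Nat.card G + 1 by omega, pow_succ, pow_card_eq_one', one_mul]
  have hcx : Commute c x := h1 ▸ h2.pow_left (m + 1)
  have hxx : x = x⁻¹ := by rw [← hc, hcx.eq, mul_inv_cancel_right]
  have h3 : x ^ 2 = 1 := by rw [sq]; nth_rewrite 2 [hxx]; exact mul_inv_cancel _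
  have := Nat.le_of_dvd two_pos (orderOf_dvd_of_pow_eq_one h3)
  rw [s.hyp.ord] at this
  have := s.hyp.lt
  omega

theorem odd_of_coprime (s : Std p x ζ) {k : ℕ} (hk : k.Coprime (Nat.card G)) : Odd k := by
  rw [← Nat.not_even_iff_odd, even_iff_two_dvd]
  intro h
  exact absurd (Nat.eq_one_of_dvd_coprimes hk h (two_dvd_card s)) (by norm_num)

theorem pow_odd_of_sq {u : G} (hu : u ^ 2 = 1) {k : ℕ} (hk : Odd k) : u ^ k = u := by
  obtain ⟨m, rfl⟩ := hk
  rw [pow_succ, pow_mul, hu, one_pow, one_mul]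

/-- `p`-singular elements commute with no involution. -/
theorem not_dvd_of_commute (s : Std p x ζ) {u g : G} (hu : orderOf u = 2) (hc : Commute u g) :
    ¬ p ∣ orderOf g := by
  intro hg
  obtain ⟨a, z, hz, hconj⟩ := exists_conj_singular s.hyp hg
  obtain ⟨c, hc'⟩ := isConj_iff.1 hconj
  have hmem : c * u * c⁻¹ ∈ Subgroup.centralizer ({x} : Set G) := by
    rw [← centralizer_singular s a hz, Subgroup.mem_centralizer_singleton_iff, ← hc']
    calc c * u * c⁻¹ * (c * g * c⁻¹) = c * (u * g) * c⁻¹ := by group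
      _ = c * (g * u) * c⁻¹ := by rw [hc.eq]
      _ = _ := by group
  have h := Subgroup.orderOf_dvd_natCard _ hmem
  rw [card_centralizer_x s.hyp, ← MulAut.conj_apply, MulEquiv.orderOf_eq, hu] at h
  rcases Nat.prime_two.dvd_mul.1 h with h1 | h1
  · have := (Nat.prime_dvd_prime_iff_eq Nat.prime_two Fact.out).1 h1
    have := s.hyp.lt
    omega
  · exact Nat.not_even_iff_odd.2 (odd_center s) (even_iff_two_dvd.2 h1)

theorem regular_of_two_power (s : Std p x ζ) {g : G} {a : ℕ} (hg : orderOf g = 2 ^ a) :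
    ¬ p ∣ orderOf g := by
  rw [hg]
  intro h
  have := (Nat.prime_dvd_prime_iff_eq Fact.out Nat.prime_two).1
    ((Fact.out : p.Prime).dvd_of_dvd_pow h)
  have := s.hyp.lt
  omega

/-- Squaring on an element of odd order is a coprime exponent congruent to `2` on the centre. -/
theorem exists_k_two (s : Std p x ζ) {y : G} (hy : Odd (orderOf y)) :
    ∃ k : ℕ, k.Coprime (Nat.card G) ∧ k ≡ 2 [MOD Nat.card (Subgroup.center G)] ∧ y ^ k = y ^ 2 := by
  set m := (Nat.card (Subgroup.center G)).lcm (orderOf y)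
  have hm : m ∣ Nat.card G :=
    Nat.lcm_dvd (Subgroup.card_subgroup_dvd_card _) (orderOf_dvd_natCard y)
  have h2 : (2 : ℕ).Coprime m := by
    refine (Nat.prime_two.coprime_iff_not_dvd).2 fun hd => ?_
    have h3 : 2 ∣ Nat.card (Subgroup.center G) * orderOf y := hd.trans (Nat.lcm_dvd_mul _ _)
    rcases Nat.prime_two.dvd_mul.1 h3 with h | h
    · exact Nat.not_even_iff_odd.2 (odd_center s) (even_iff_two_dvd.2 h)
    · exact Nat.not_even_iff_odd.2 hy (even_iff_two_dvd.2 h)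
  obtain ⟨k, hk, hkm⟩ := exists_exp hm h2
  exact ⟨k, hk, hkm.of_dvd (Nat.dvd_lcm_left _ _),
    pow_eq_pow_iff_modEq.2 (hkm.of_dvd (Nat.dvd_lcm_right _ _))⟩

/-- An iteration of squares on a periodic sequence. -/
theorem eq_zero_or_one {f : G → ℝ} {y : G} (hy : Odd (orderOf y))
    (h0 : ∀ j : ℕ, 0 ≤ f (y ^ 2 ^ j))
    (hstep : ∀ j : ℕ, f (y ^ 2 ^ (j + 1)) = f (y ^ 2 ^ j) ^ 2) : f y = 0 ∨ f y = 1 := by
  have hall : ∀ j, f (y ^ 2 ^ j) = f y ^ 2 ^ j := by
    intro j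
    induction j with
    | zero => simp
    | succ j ih => rw [hstep, ih, ← pow_mul, ← pow_succ]
  set L := (orderOf y).totient
  have hL : 0 < L := Nat.totient_pos.2 (orderOf_pos y)
  have hper : y ^ 2 ^ L = y := by
    conv_rhs => rw [← pow_one y]
    exact pow_eq_pow_iff_modEq.2 (Nat.ModEq.pow_totient (Nat.coprime_two_left.2 hy))
  have he := hall L
  rw [hper] at he
  rcases (show 0 ≤ f y by simpa using h0 0).eq_or_lt with h | h
  · exact Or.inl h.symm
  · refine Or.inr ?_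
    have h2 : 1 < 2 ^ L := Nat.one_lt_two_pow hL.ne'
    rcases lt_trichotomy (f y) 1 with h' | h' | h'
    · exact absurd he (pow_lt_self_of_lt_one₀ h h' h2).ne'
    · exact h'
    · exact absurd he (lt_self_pow₀ h' h2).ne

theorem zeta_involution (s : Std p x ζ) {u : G} (hu : orderOf u = 2) : (ζ : G → ℂ) u = -1 := by
  obtain ⟨k, hk, -, hk2⟩ := exists_k0 s
  have hu2 : u ^ 2 = 1 := hu ▸ pow_orderOf_eq_one u
  have h := alt_identity s hk hk2 (regular_of_two_power s (a := 1) (by rw [hu, pow_one]))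
  rw [pow_odd_of_sq hu2 (odd_of_coprime s hk), ← sq u, hu2, apply_one_zeta s.hyp] at h
  have h5 := s.hyp.lt
  have h3 : ((p - 3 : ℕ) : ℂ) = ((p - 2 : ℕ) : ℂ) - 1 := by
    rw [Nat.cast_sub (by omega), Nat.cast_sub (by omega)]
    push_cast
    ring
  rw [h3] at h
  rcases mul_eq_zero.1 (show ((ζ : G → ℂ) u - ((p - 2 : ℕ) : ℂ)) * ((ζ : G → ℂ) u + 1) = 0 by
    linear_combination h) with h1 | h1
  · exfalso
    have := s.hyp.faith u (by rw [apply_one_zeta s.hyp, sub_eq_zero.1 h1])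
    rw [this, orderOf_one] at hu
    exact absurd hu (by norm_num)
  · exact eq_neg_of_add_eq_zero_left h1

theorem no_order_four (s : Std p x ζ) (g : G) : orderOf g ≠ 4 := by
  intro hg
  have hg4 : g ^ 4 = 1 := hg ▸ pow_orderOf_eq_one g
  have hreg : ¬ p ∣ orderOf g := regular_of_two_power s (a := 2) (by rw [hg]; norm_num)
  have hKd : (4 : ℕ).Coprime (Nat.card (Subgroup.center G)) := by
    rw [show (4 : ℕ) = 2 ^ 2 by norm_num, Nat.coprime_pow_left_iff two_pos]
    exact Nat.coprime_two_left.2 (odd_center s)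
  have hm : 4 * Nat.card (Subgroup.center G) ∣ Nat.card G :=
    hKd.mul_dvd_of_dvd_of_dvd (hg ▸ orderOf_dvd_natCard g) (Subgroup.card_subgroup_dvd_card _)
  have hexp : ∀ a b : ℕ, Nat.Coprime a 4 → Nat.Coprime b (Nat.card (Subgroup.center G)) →
      ∃ k : ℕ, k.Coprime (Nat.card G) ∧ k ≡ b [MOD Nat.card (Subgroup.center G)] ∧
        g ^ k = g ^ a := by
    intro a b ha hb
    obtain ⟨r, hr1, hr2⟩ := Nat.chineseRemainder hKd a b
    obtain ⟨k, hk, hkm⟩ := exists_exp hm (r := r) (Nat.Coprime.mul_right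
      (by rw [Nat.Coprime, Nat.ModEq.gcd_eq hr1]; exact ha)
      (by rw [Nat.Coprime, Nat.ModEq.gcd_eq hr2]; exact hb))
    exact ⟨k, hk, (hkm.of_dvd (dvd_mul_left _ _)).trans hr2,
      pow_eq_pow_iff_modEq.2 (hg ▸ (hkm.of_dvd (dvd_mul_right _ _)).trans hr1)⟩
  obtain ⟨k, hk, hk2, hgk⟩ := hexp 1 2 (by norm_num) (Nat.coprime_two_left.2 (odd_center s))
  rw [pow_one] at hgk
  have h := alt_identity s hk hk2 hreg
  have hgg : orderOf (g * g) = 2 := by
    rw [← sq, orderOf_pow_of_dvd two_ne_zero (by rw [hg]; norm_num), hg]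
  rw [hgk, zeta_involution s hgg] at h
  obtain ⟨l, hl, hl2, hgl⟩ := hexp 3 1 (by norm_num) (Nat.coprime_one_left _)
  have hconj : (ζ : G → ℂ) (g ^ 3) = (ζ : G → ℂ) g := by
    rw [← hgl, regular_pow_congr s hl (Nat.coprime_one_left _) hl2 hreg, pow_one]
  haveI := Fintype.ofFinite (Subgroup.zpowers g)
  obtain ⟨m, hm'⟩ := PrimeSharp.TwoP.Congr.exists_int_of_rational
    (isCharacter_comp (Subgroup.zpowers g).subtype (isCharacter_irr ζ)) (fun j hj y => by
      obtain ⟨i, hi⟩ := mem_powers_iff_mem_zpowers.2 y.2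
      have hj2 : j % 4 = 1 ∨ j % 4 = 3 := by
        rw [Nat.card_zpowers, hg] at hj
        have : ¬ 2 ∣ j := fun h2 => absurd (Nat.eq_one_of_dvd_coprimes hj h2 (by norm_num)) (by norm_num)
        omega
      show (ζ : G → ℂ) ((y : G) ^ j) = (ζ : G → ℂ) (y : G)
      have hi' : g ^ i = (y : G) := hi
      rw [← hi', ← pow_mul, ← pow_mod_orderOf, hg, Nat.mul_mod,
        ← pow_mod_orderOf g i, hg]
      have hi4 : i % 4 = 0 ∨ i % 4 = 1 ∨ i % 4 = 2 ∨ i % 4 = 3 := by omega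
      rcases hj2 with e | e <;> rw [e] <;> rcases hi4 with e' | e' | e' | e' <;> rw [e'] <;>
        first
        | rfl
        | (norm_num; exact hconj)
        | (norm_num; exact hconj.symm)
        | (norm_num [hconj]))
    ⟨g, Subgroup.mem_zpowers g⟩
  have hm'' : (m : ℂ) = (ζ : G → ℂ) g := hm'
  rw [← hm''] at h
  have h' : m * ((p - 3 : ℕ) - m) = 1 := by
    have : ((m * ((p - 3 : ℕ) - m) : ℤ) : ℂ) = ((1 : ℤ) : ℂ) := by
      push_cast
      linear_combination -h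
    exact_mod_cast this
  have := s.hyp.lt
  rcases Int.eq_one_or_neg_one_of_mul_eq_one h' with e | e <;> rw [e] at h' <;> omega

theorem zero_of_odd (s : Std p x ζ) {y : G} (hy : Odd (orderOf y)) (hreg : ¬ p ∣ orderOf y)
    (hyc : y ∉ Subgroup.center G) : (ζ : G → ℂ) y = 0 := by
  have h5 := s.hyp.lt
  have hn : (0 : ℝ) < ((p - 2 : ℕ) : ℝ) := Nat.cast_pos.2 (by omega)
  have hstep : ∀ j : ℕ, ‖(ζ : G → ℂ) (y ^ 2 ^ (j + 1))‖ / ((p - 2 : ℕ) : ℝ) =
      (‖(ζ : G → ℂ) (y ^ 2 ^ j)‖ / ((p - 2 : ℕ) : ℝ)) ^ 2 := by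
    intro j
    set w := y ^ 2 ^ j with hw
    have hwo : Odd (orderOf w) := hy.of_dvd_nat (orderOf_pow_dvd _)
    obtain ⟨k, hk, hk2, hwk⟩ := exists_k_two s hwo
    have h := alt_identity s hk hk2 (fun hd => hreg (hd.trans (orderOf_pow_dvd _)) : ¬ p ∣ orderOf w)
    rw [hwk, ← sq w] at h
    have hsq : y ^ 2 ^ (j + 1) = w ^ 2 := by rw [hw, ← pow_mul, ← pow_succ]
    have h' : (ζ : G → ℂ) w ^ 2 = ((p - 2 : ℕ) : ℂ) * (ζ : G → ℂ) (w ^ 2) := by
      rw [show p - 2 = p - 3 + 1 by omega]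
      push_cast
      linear_combination h
    rw [hsq, div_pow, ← norm_pow, h', norm_mul, Complex.norm_natCast]
    field_simp
  rcases eq_zero_or_one (f := fun w => ‖(ζ : G → ℂ) w‖ / ((p - 2 : ℕ) : ℝ)) hy
    (fun j => div_nonneg (norm_nonneg _) hn.le) hstep with h | h
  · simpa [hn.ne'] using h
  · exact absurd (mem_center_of_norm s.hyp (by rwa [div_eq_one_iff_eq hn.ne'] at h)) hyc

theorem norm_step (s : Std p x ζ) {u y : G} (hu : orderOf u = 2) (hc : Commute u y)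
    (hy : Odd (orderOf y)) (hyc : y ∉ Subgroup.center G) :
    ‖(ζ : G → ℂ) (u * y)‖ = 0 ∨ ‖(ζ : G → ℂ) (u * y)‖ = ((p - 3 : ℕ) : ℝ) := by
  have h5 := s.hyp.lt
  have hn : (0 : ℝ) < ((p - 3 : ℕ) : ℝ) := Nat.cast_pos.2 (by omega)
  have hu2 : u ^ 2 = 1 := hu ▸ pow_orderOf_eq_one u
  have hstep : ∀ j : ℕ, ‖(ζ : G → ℂ) (u * y ^ 2 ^ (j + 1))‖ / ((p - 3 : ℕ) : ℝ) =
      (‖(ζ : G → ℂ) (u * y ^ 2 ^ j)‖ / ((p - 3 : ℕ) : ℝ)) ^ 2 := by
    intro j
    set w := y ^ 2 ^ j with hw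
    have hwo : Odd (orderOf w) := hy.of_dvd_nat (orderOf_pow_dvd _)
    obtain ⟨k, hk, hk2, hwk⟩ := exists_k_two s hwo
    have hcw : Commute u w := hc.pow_right _
    have hregw : ¬ p ∣ orderOf (u * w) :=
      not_dvd_of_commute s hu ((Commute.refl u).mul_right hcw)
    have hw2c : w ^ 2 ∉ Subgroup.center G := by
      intro h
      apply hyc
      have hsq : w ^ 2 = y ^ 2 ^ (j + 1) := by rw [hw, ← pow_mul, ← pow_succ]
      rw [hsq] at h
      obtain ⟨t, ht⟩ := exists_pow_eq_self_of_coprime (x := y) (n := 2 ^ (j + 1))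
        (Nat.Coprime.pow_left _ (Nat.coprime_two_left.2 hy))
      exact ht ▸ pow_mem h t
    have h := alt_identity s hk hk2 hregw
    rw [hcw.mul_pow, pow_odd_of_sq hu2 (odd_of_coprime s hk), hwk] at h
    have hsq2 : u * w * (u * w) = w ^ 2 := by
      rw [mul_assoc, ← mul_assoc w u w, ← hcw.eq, mul_assoc u w w, ← mul_assoc, ← sq u, hu2,
        one_mul, sq]
    rw [hsq2, zero_of_odd s (hwo.of_dvd_nat (orderOf_pow_dvd _))
      (fun hd => not_dvd_of_commute s hu (hcw.pow_right 2) hd) hw2c, sub_zero] at h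
    have hsq : y ^ 2 ^ (j + 1) = w ^ 2 := by rw [hw, ← pow_mul, ← pow_succ]
    rw [hsq, div_pow, ← norm_pow, h, norm_mul, Complex.norm_natCast]
    field_simp
  rcases eq_zero_or_one (f := fun w => ‖(ζ : G → ℂ) (u * w)‖ / ((p - 3 : ℕ) : ℝ)) hy
    (fun j => div_nonneg (norm_nonneg _) hn.le) hstep with h | h
  · exact Or.inl (by simpa [hn.ne'] using h)
  · exact Or.inr (by rwa [div_eq_one_iff_eq hn.ne'] at h)

open scoped Classical in
/-- Elements of odd order commuting with an involution are central. -/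
theorem central_of_commute (s : Std p x ζ) {u y : G} (hu : orderOf u = 2) (hc : Commute u y)
    (hy : Odd (orderOf y)) : y ∈ Subgroup.center G := by
  by_contra hyc
  have h5 := s.hyp.lt
  set n := p - 2 with hn
  have hu2 : u * u = 1 := by rw [← sq, ← hu, pow_orderOf_eq_one]
  set W := Subgroup.zpowers y with hW
  haveI := Fintype.ofFinite W
  have hcW : ∀ w : W, Commute u (w : G) := fun w => by
    obtain ⟨i, hi⟩ := w.2
    rw [← hi]
    exact hc.zpow_right i
  have hoddW : ∀ w : W, Odd (orderOf (w : G)) := fun w => by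
    refine hy.of_dvd_nat ?_
    rw [← Nat.card_zpowers y]
    exact Subgroup.orderOf_dvd_natCard _ w.2
  obtain ⟨d, ρ, hρ, hρχ⟩ := exists_rep ζ
  let σ : Representation ℂ W (Fin d → ℂ) := ρ.comp W.subtype
  have hru : ρ u * ρ u = 1 := by rw [← map_mul, hu2, map_one]
  have hcomm : ∀ (ε : ℂ) (w : W), Commute (σ w) ((2 : ℂ)⁻¹ • (1 + ε • ρ u)) := fun ε w =>
    ((Commute.one_right _).add_right (((hcW w).symm.map ρ).smul_right ε)).smul_right _
  have hidem : ∀ ε : ℂ, ε * ε = 1 → ((2 : ℂ)⁻¹ • (1 + ε • ρ u)) * ((2 : ℂ)⁻¹ • (1 + ε • ρ u)) =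
      (2 : ℂ)⁻¹ • (1 + ε • ρ u) := by
    intro ε hε
    rcases mul_self_eq_one_iff.1 hε with rfl | rfl <;>
      simp only [smul_mul_smul_comm, mul_add, add_mul, one_mul, mul_one, smul_mul_assoc,
        mul_smul_comm, hru, smul_smul, one_smul, neg_one_mul, neg_smul, neg_neg, neg_mul,
        mul_neg] <;> module
  obtain ⟨φ, hφ, hφv⟩ := CharRange.exists_char_range σ _ (hidem 1 (one_mul 1)) (hcomm 1)
  obtain ⟨ψ, hψ, hψv⟩ := CharRange.exists_char_range σ _ (hidem (-1) (by ring)) (hcomm (-1))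
  have htr : ∀ (ε : ℂ) (w : W), LinearMap.trace ℂ _ (σ w * ((2 : ℂ)⁻¹ • (1 + ε • ρ u))) =
      ((ζ : G → ℂ) w + ε * (ζ : G → ℂ) (u * w)) / 2 := by
    intro ε w
    rw [mul_smul_comm, map_smul, mul_add, mul_one, map_add, mul_smul_comm, map_smul, smul_eq_mul,
      smul_eq_mul, ← hρχ]
    show (2 : ℂ)⁻¹ * (LinearMap.trace ℂ _ (ρ w) + ε * LinearMap.trace ℂ _ (ρ (w : G) * ρ u)) =
      (LinearMap.trace ℂ _ (ρ (w : G)) + ε * LinearMap.trace ℂ _ (ρ (u * w))) / 2
    rw [← map_mul, (hcW w).eq]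
    ring
  set Zc := (Finset.univ : Finset ↥W).filter fun w : ↥W => (w : G) ∈ Subgroup.center G with hZc
  set B := (Finset.univ : Finset ↥W).filter fun w : ↥W => (w : G) ∉ Subgroup.center G ∧
    (ζ : G → ℂ) (u * w) ≠ 0 with hB
  set K := Zc.card with hK
  set D : ℂ := ((p - 3 : ℕ) : ℂ) with hD
  set N : ℂ := ((n : ℕ) : ℂ) with hN
  have hND : N = D + 1 := by
    rw [hN, hD, hn, show p - 2 = p - 3 + 1 by omega]
    push_cast
    ring
  -- the products, term by term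
  have hterm : ∀ (e1 e2 : ℂ), conj e2 = e2 → ∀ w : W,
      (((ζ : G → ℂ) w + e1 * (ζ : G → ℂ) (u * w)) / 2) *
        conj (((ζ : G → ℂ) w + e2 * (ζ : G → ℂ) (u * w)) / 2) =
      (if w ∈ Zc then (N - e1) * (N - e2) / 4 else 0) + (if w ∈ B then e1 * e2 * D ^ 2 / 4 else 0) := by
    intro e1 e2 he2 w
    by_cases hwc : (w : G) ∈ Subgroup.center G
    · have hZ : w ∈ Zc := Finset.mem_filter.2 ⟨Finset.mem_univ _, hwc⟩
      rw [if_pos hZ, if_neg (fun h : w ∈ B => (Finset.mem_filter.1 h).2.1 hwc), add_zero,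
        apply_mul_central ζ hwc u, zeta_involution s hu]
      have h1 : (ζ : G → ℂ) (w : G) = lam ζ (w : G) * N := by
        have := apply_mul_central ζ hwc 1
        rwa [one_mul, apply_one_zeta s.hyp] at this
      rw [h1]
      simp only [map_div₀, map_add, map_mul, map_neg, map_one, map_ofNat, he2,
        show conj N = N by rw [hN, map_natCast]]
      linear_combination (N - e1) * (N - e2) / 4 * lam_mul_conj ζ hwc
    · rw [if_neg (fun h : w ∈ Zc => hwc (Finset.mem_filter.1 h).2), zero_add,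
        zero_of_odd s (hoddW w) (not_dvd_of_commute s hu (hcW w)) hwc, zero_add, zero_add]
      by_cases hb : (ζ : G → ℂ) (u * w) = 0
      · rw [if_neg (fun h : w ∈ B => (Finset.mem_filter.1 h).2.2 hb), hb]
        simp
      · have hBm : w ∈ B := Finset.mem_filter.2 ⟨Finset.mem_univ _, hwc, hb⟩
        rw [if_pos hBm]
        have hnorm : (ζ : G → ℂ) (u * w) * conj ((ζ : G → ℂ) (u * w)) = D ^ 2 := by
          rcases norm_step s hu (hcW w) (hoddW w) hwc with h | h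
          · exact absurd (norm_eq_zero.1 h) hb
          · rw [Complex.mul_conj, Complex.normSq_eq_norm_sq, h, hD]
            push_cast
            ring
        simp only [map_div₀, map_mul, map_ofNat, he2]
        linear_combination e1 * e2 / 4 * hnorm
  have hsum : ∀ (e1 e2 : ℂ), conj e2 = e2 → ∑ w : W, (((ζ : G → ℂ) w + e1 * (ζ : G → ℂ) (u * w)) / 2) *
      conj (((ζ : G → ℂ) w + e2 * (ζ : G → ℂ) (u * w)) / 2) =
      (K : ℂ) * ((N - e1) * (N - e2) / 4) + (B.card : ℂ) * (e1 * e2 * D ^ 2 / 4) := by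
    intro e1 e2 he2
    rw [Finset.sum_congr rfl fun w _ => hterm e1 e2 he2 w, Finset.sum_add_distrib,
      Finset.sum_ite_mem, Finset.sum_ite_mem, Finset.univ_inter, Finset.univ_inter,
      Finset.sum_const, Finset.sum_const, nsmul_eq_mul, nsmul_eq_mul]
  have hWc : (Nat.card W : ℂ) ≠ 0 := Nat.cast_ne_zero.2 Nat.card_pos.ne'
  have hinner : ∀ {a b : W → ℂ} {e1 e2 : ℂ}, conj e2 = e2 →
      (∀ w : W, a w = ((ζ : G → ℂ) w + e1 * (ζ : G → ℂ) (u * w)) / 2) →
      (∀ w : W, b w = ((ζ : G → ℂ) w + e2 * (ζ : G → ℂ) (u * w)) / 2) →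
      (Nat.card W : ℂ) * Cfsg.classInner a b =
        (K : ℂ) * ((N - e1) * (N - e2) / 4) + (B.card : ℂ) * (e1 * e2 * D ^ 2 / 4) := by
    intro a b e1 e2 he ha hb
    rw [← hsum e1 e2 he, Cfsg.classInner, ← mul_assoc, mul_inv_cancel₀ hWc, one_mul]
    exact Finset.sum_congr rfl fun w _ => by rw [ha, hb]
  have hφ' : ∀ w : W, φ w = ((ζ : G → ℂ) w + 1 * (ζ : G → ℂ) (u * w)) / 2 := fun w => by
    rw [hφv, htr]
  have hψ' : ∀ w : W, ψ w = ((ζ : G → ℂ) w + -1 * (ζ : G → ℂ) (u * w)) / 2 := fun w => by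
    rw [hψv, htr]
  obtain ⟨a, ha⟩ := exists_classInner_nat hφ hφ
  obtain ⟨b, hb⟩ := exists_classInner_nat hψ hψ
  obtain ⟨c, hc'⟩ := exists_classInner_nat hφ hψ
  have h1 := hinner (map_one conj) hφ' hφ'
  have h2 := hinner (by simp : conj (-1 : ℂ) = -1) hψ' hψ'
  have h3 := hinner (by simp : conj (-1 : ℂ) = -1) hφ' hψ'
  rw [ha] at h1
  rw [hb] at h2
  rw [hc'] at h3
  set W' := Nat.card W with hW'
  set L := B.card with hL
  set D' := p - 3 with hD'
  have e1 : 4 * W' * a = D' ^ 2 * (K + L) := by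
    have : ((4 * W' * a : ℕ) : ℂ) = ((D' ^ 2 * (K + L) : ℕ) : ℂ) := by
      push_cast
      rw [← hD]
      rw [hND] at h1
      linear_combination 4 * h1
    exact_mod_cast this
  have e2 : (4 * W' * b : ℤ) - 4 * W' * a = 4 * n * K := by
    have : (((4 * W' * b : ℤ) - 4 * W' * a : ℤ) : ℂ) = ((4 * n * K : ℤ) : ℂ) := by
      push_cast
      rw [← hN]
      linear_combination 4 * h2 - 4 * h1
    exact_mod_cast this
  have e3 : (4 * W' * c : ℤ) = ((n : ℤ) ^ 2 - 1) * K - (D' : ℤ) ^ 2 * L := by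
    have : ((4 * W' * c : ℤ) : ℂ) = ((((n : ℤ) ^ 2 - 1) * K - (D' : ℤ) ^ 2 * L : ℤ) : ℂ) := by
      push_cast
      rw [← hN, ← hD]
      linear_combination 4 * h3
    exact_mod_cast this
  -- arithmetic
  set C0 := (Subgroup.center G).subgroupOf W with hC0
  have hKC : K = Nat.card C0 := by
    rw [hK, hZc, Nat.card_eq_fintype_card, Fintype.card_subtype]
    simp [hC0, Subgroup.mem_subgroupOf]
  have hKn : K ∣ n := by
    rw [hKC]
    obtain ⟨z, hz⟩ := IsCyclic.exists_generator (α := C0)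
    rw [← orderOf_eq_card_of_forall_mem_zpowers hz]
    refine orderOf_dvd_of_pow_eq_one (Subtype.ext (Subtype.ext ?_))
    simp only [SubmonoidClass.coe_pow, OneMemClass.coe_one]
    exact center_pow_degree s z.2
  have hKW : K ∣ W' := hKC ▸ Subgroup.card_subgroup_dvd_card C0
  have hWn : W' ∣ n * K := by
    have : (W' : ℤ) ∣ ((n * K : ℕ) : ℤ) := ⟨(b : ℤ) - a, by
      push_cast
      linarith⟩
    exact_mod_cast this
  have hWn2 : W' ∣ n ^ 2 := hWn.trans (by rw [sq]; exact mul_dvd_mul_left n hKn)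
  have hcop : W'.Coprime (D' ^ 2) := by
    refine (Nat.Coprime.coprime_dvd_left hWn2 (Nat.Coprime.pow 2 2 ?_))
    rw [hn, show p - 2 = D' + 1 by omega]
    simp
  have hWKL : W' ∣ K + L := hcop.dvd_of_dvd_mul_left (e1 ▸ ⟨4 * a, by ring⟩)
  have hKpos : 0 < K := hKC ▸ Nat.card_pos
  have hKL : K + L ≤ W' := by
    rw [hK, hL, hW', Nat.card_eq_fintype_card, ← Finset.card_univ,
      ← Finset.card_union_of_disjoint (by
        rw [Finset.disjoint_left]
        intro w hw hw'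
        exact (Finset.mem_filter.1 hw').2.1 (Finset.mem_filter.1 hw).2)]
    exact Finset.card_le_card (Finset.subset_univ _)
  have hWeq : W' = K + L := le_antisymm (Nat.le_of_dvd (by omega) hWKL) hKL
  have hWodd : Odd W' := by rw [hW', Nat.card_zpowers]; exact hy
  obtain ⟨o, ho⟩ := hKW
  have hone : o ≠ 1 := by
    intro h1'
    apply hyc
    have : C0 = ⊤ := Subgroup.eq_top_of_card_eq C0 (by rw [← hKC, ← hW', ho, h1', mul_one])
    exact (this ▸ Subgroup.mem_top (⟨y, Subgroup.mem_zpowers y⟩ : W) :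
      (⟨y, Subgroup.mem_zpowers y⟩ : W) ∈ C0)
  have ho3 : 3 ≤ o := by
    have hodd' : Odd o := (Nat.odd_mul.1 (ho ▸ hWodd)).2
    obtain ⟨j, hj⟩ := hodd'
    omega
  have hL2 : 2 * K ≤ L := by nlinarith
  have hDn : (D' : ℤ) = n - 1 := by omega
  have hn5 : (4 : ℤ) ≤ n := by omega
  have hc0 : (0 : ℤ) ≤ 4 * W' * c := by positivity
  rw [hDn] at e3
  have hL2' : (2 * K : ℤ) ≤ L := by exact_mod_cast hL2
  have hK' : (1 : ℤ) ≤ K := by exact_mod_cast hKpos
  have : ((n : ℤ) - 1) ^ 2 * (2 * K) ≤ ((n : ℤ) - 1) ^ 2 * L :=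
    mul_le_mul_of_nonneg_left hL2' (sq_nonneg _)
  nlinarith [mul_le_mul_of_nonneg_left hn5 (by nlinarith : (0 : ℤ) ≤ ((n : ℤ) - 1) * K)]

/-- The `p`-regular elements on which `ζ` does not vanish. -/
theorem regular_cases (s : Std p x ζ) {g : G} (hg : ¬ p ∣ orderOf g) :
    g ∈ Subgroup.center G ∨ (∃ u, orderOf u = 2 ∧ ∃ z ∈ Subgroup.center G, g = u * z) ∨
      (Odd (orderOf g) ∧ (ζ : G → ℂ) g = 0) := by
  obtain ⟨a, m, hm, hgo⟩ := Nat.exists_eq_pow_mul_and_not_dvd (orderOf_pos g).ne' 2 (by norm_num)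
  have hm0 : m ≠ 0 := fun h => hm (h ▸ dvd_zero 2)
  set y := g ^ 2 ^ a with hy
  have hyo : orderOf y = m := by
    rw [hy, orderOf_pow_of_dvd (by positivity) (hgo ▸ dvd_mul_right _ _), hgo,
      Nat.mul_div_cancel_left _ (by positivity)]
  have hyodd : Odd (orderOf y) := by
    rw [hyo, ← Nat.not_even_iff_odd, even_iff_two_dvd]; exact hm
  rcases Nat.eq_zero_or_pos a with rfl | ha
  · rw [hy, pow_zero, pow_one] at hyodd
    by_cases hgc : g ∈ Subgroup.center G
    · exact Or.inl hgc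
    · exact Or.inr (Or.inr ⟨hyodd, zero_of_odd s hyodd hg hgc⟩)
  set t := g ^ m with ht
  have hto : orderOf t = 2 ^ a := by
    rw [ht, orderOf_pow_of_dvd hm0 (hgo ▸ dvd_mul_left _ _), hgo,
      Nat.mul_div_cancel _ (Nat.pos_of_ne_zero hm0)]
  have ha1 : a = 1 := by
    by_contra hne
    obtain ⟨c, rfl⟩ : ∃ c, a = c + 2 := ⟨a - 2, by omega⟩
    refine no_order_four s (t ^ 2 ^ c) ?_
    rw [orderOf_pow_of_dvd (by positivity) (hto ▸ pow_dvd_pow 2 (by omega)), hto,
      Nat.pow_div (by omega) two_pos, show c + 2 - c = 2 by omega]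
    norm_num
  subst ha1
  rw [pow_one] at hto hy
  have hcty : Commute t y := (Commute.refl g).pow_pow m 2
  have hyc := central_of_commute s hto hcty hyodd
  obtain ⟨j, hj⟩ : ∃ j, m = 2 * j + 1 := by
    rw [hyo] at hyodd; obtain ⟨j, hj⟩ := hyodd; exact ⟨j, by omega⟩
  refine Or.inr (Or.inl ⟨t, hto, (y ^ j)⁻¹, inv_mem (pow_mem hyc j), ?_⟩)
  rw [eq_mul_inv_iff_mul_eq, hy, ht, ← pow_mul, ← pow_succ', hj]

end Cfsg.Agent.Lib.DegSubTwo.Values
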